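import Cfsg.Agent.SpecSymp.Symp

/-! Realisation of the maximal element orders in `PSp (4, q)`. -/

set_option autoImplicit false
set_option linter.style.haveILetI false
set_option linter.unusedSectionVars false

open Matrix

namespace Cfsg.Lib.SpecSymp

variable {F : Type*} [Field F] [Fintype F] {p : ℕ} [Fact p.Prime] [CharP F p]

local notation "π" => QuotientGroup.mk' (Subgroup.center (Matrix.symplecticGroup (Fin 2) F))

theorem orderOf_proj_char_two (h : p = 2) (t : symplecticGroup (Fin 2) F) : orderOf (π t) = orderOf t := by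
  refine orderOf_eq_orderOf_iff.2 fun e => ?_
  rw [← map_pow, QuotientGroup.mk'_apply, QuotientGroup.eq_one_iff]
  refine ⟨fun hz => Fusion.PSp.eq_one_of_mem_center (p := p) (by norm_num) hz (k := 1) ?_, fun h => h ▸ one_mem _⟩
  rw [h, pow_one]
  exact SympOrders.center_sq (by norm_num) hz

theorem card_facts : ∃ f : ℕ, 1 ≤ f ∧ Fintype.card F = p ^ f := by
  obtain ⟨f, -, hf⟩ := FiniteField.card F p
  exact ⟨f, f.2, hf⟩

theorem coprime_p {k : ℕ} (hk : k = Fintype.card F ^ 2 - 1 ∨ k = Fintype.card F ^ 2 + 1) : Nat.Coprime k p := by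
  have hp : p.Prime := Fact.out
  obtain ⟨f, hf1, hf⟩ := card_facts (F := F) (p := p)
  have hd : p ∣ Fintype.card F ^ 2 := hf ▸ dvd_pow (dvd_pow_self p (by omega)) (by norm_num)
  refine Nat.Coprime.symm ((hp.coprime_iff_not_dvd).2 fun h => hp.ne_one (Nat.dvd_one.1 ?_))
  rcases hk with rfl | rfl
  · have := Nat.dvd_sub hd h
    rwa [Nat.sub_sub_self (Nat.one_le_pow _ _ Fintype.card_pos)] at this
  · exact (Nat.dvd_add_right hd).1 h

include p in
theorem exists_order_big (hq : 3 ≤ Fintype.card F) {k : ℕ}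
    (hk : k = Fintype.card F ^ 2 - 1 ∨ k = Fintype.card F ^ 2 + 1) (t : symplecticGroup (Fin 2) F)
    (ht : orderOf t = k) : orderOf (π t) = k / Nat.gcd 2 (Fintype.card F - 1) := by
  have hp : p.Prime := Fact.out
  obtain ⟨f, hf1, hf⟩ := card_facts (F := F) (p := p)
  rcases hp.eq_two_or_odd with h2 | h2
  · have hg : Nat.gcd 2 (Fintype.card F - 1) = 1 := by
      rcases gcd_two (Fintype.card F) with h | h
      · exact h
      · have h3 : 2 ∣ Fintype.card F - 1 := h ▸ Nat.gcd_dvd_right 2 _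
        have h4 : 2 ∣ Fintype.card F := by rw [hf, h2]; exact dvd_pow_self 2 (by omega)
        omega
    rw [hg, Nat.div_one, orderOf_proj_char_two h2 t, ht]
  have hqo : Odd (Fintype.card F) := hf ▸ (Nat.odd_iff.2 h2).pow
  have hg : Nat.gcd 2 (Fintype.card F - 1) = 2 := Nat.gcd_eq_left (by obtain ⟨j, hj⟩ := hqo; omega)
  set n := orderOf (π t) with hn
  have h1 : n ∣ k := ht ▸ orderOf_map_dvd _ t
  have h3 : k ∣ 2 * n := ht ▸ SympOrders.orderOf_dvd_two_mul (by norm_num) t
  have hne : n ≠ k := by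
    intro e
    obtain ⟨d, hd, hdd⟩ := psp_dvd (p := p) (π t)
    rw [← hn, e] at hdd
    have hqq : 3 * Fintype.card F ≤ Fintype.card F ^ 2 := by rw [Nat.pow_two]; exact Nat.mul_le_mul_right _ hq
    obtain ⟨hM, hN⟩ := eps_mul (q := Fintype.card F) (by omega)
    rw [hg] at hM hN
    have hcop : Nat.Coprime k p := coprime_p hk
    rcases hd with rfl | rfl | rfl | rfl | ⟨-, rfl⟩
    · rw [hg] at hdd
      have := Nat.le_of_dvd (by omega) hdd
      rcases hk with rfl | rfl <;> omega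
    · rw [hg] at hdd
      have := Nat.le_of_dvd (by omega) hdd
      rcases hk with rfl | rfl <;> omega
    · have := Nat.le_of_dvd (by omega) (hcop.dvd_of_dvd_mul_left hdd)
      rcases hk with rfl | rfl <;> omega
    · have := Nat.le_of_dvd (by omega) (hcop.dvd_of_dvd_mul_left hdd)
      rcases hk with rfl | rfl <;> omega
    · have := Nat.dvd_one.1 ((hcop.dvd_mul_left).1 (hcop.dvd_of_dvd_mul_left hdd |>.trans (by simp)))
      rcases hk with rfl | rfl <;> omega
  obtain ⟨a, ha⟩ := h1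
  obtain ⟨b, hb⟩ := h3
  have hn0 : 0 < n := orderOf_pos _
  have hab : a * b = 2 := by
    have : n * 2 = n * (a * b) := by rw [mul_comm n 2, hb, ha]; ring
    exact (Nat.eq_of_mul_eq_mul_left hn0 this).symm
  have ha2 : a = 2 := by
    rcases (Nat.dvd_prime Nat.prime_two).1 ⟨b, hab.symm⟩ with rfl | rfl
    · exact absurd (by rw [ha, mul_one]) hne
    · rfl
  rw [hg, ha, ha2, Nat.mul_div_cancel _ (by norm_num)]

theorem exists_order_p : ∃ u : symplecticGroup (Fin 1) F, orderOf u = p := by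
  have hp : p.Prime := Fact.out
  let N : Matrix (Fin 1 ⊕ Fin 1) (Fin 1 ⊕ Fin 1) F := fromBlocks 0 1 0 0
  have hNN : N * N = 0 := by simp [N, fromBlocks_multiply]
  have h1 : (1 + N : Matrix _ _ F) = fromBlocks 1 1 0 1 := by
    rw [show N = fromBlocks 0 1 0 0 from rfl, ← fromBlocks_one, fromBlocks_add]; simp
  refine ⟨⟨1 + N, ?_⟩, orderOf_eq_prime (Subtype.ext ?_) fun e => ?_⟩
  · rw [SymplecticGroup.mem_iff, h1]
    simp [Matrix.J, fromBlocks_transpose, fromBlocks_multiply]
  · show ((1 : Matrix _ _ F) + N) ^ p = 1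
    rw [add_pow_char_of_commute p (Commute.one_left N), one_pow, pow_eq_zero_of_le hp.two_le (by rw [pow_two, hNN]),
      add_zero]
  · have h := congrFun (congrFun (congrArg Subtype.val e) (Sum.inl 0)) (Sum.inr 0)
    simp [N] at h

theorem exists_order_four (h : p = 2) : ∃ x : PSp 2 F, orderOf x = 2 * 2 := by
  subst h
  let U : Matrix (Fin 2) (Fin 2) F := !![1, 1; 0, 1]
  let A : Matrix (Fin 2 ⊕ Fin 2) (Fin 2 ⊕ Fin 2) F := fromBlocks U !![0, 1; 0, 1] 0 !![1, 0; 1, 1]
  have h11 : (1 : F) + 1 = 0 := CharTwo.add_self_eq_zero 1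
  have hmem : A ∈ symplecticGroup (Fin 2) F := by
    rw [SymplecticGroup.mem_iff]
    ext (i | i) (j | j) <;> fin_cases i <;> fin_cases j <;>
      simp [A, U, Matrix.J, fromBlocks_transpose, fromBlocks_multiply, CharTwo.neg_eq, h11, Matrix.mul_apply, Fin.sum_univ_two, Matrix.vecMul, dotProduct]
  refine ⟨π ⟨A, hmem⟩, ?_⟩
  rw [orderOf_proj_char_two rfl]
  refine (orderOf_eq_prime_pow (p := 2) (n := 1) (fun e => ?_) (Subtype.ext ?_)).trans (by norm_num)
  · have h := congrFun (congrFun (congrArg Subtype.val e) (Sum.inl 0)) (Sum.inr 0)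
    simp [A, U, pow_two, fromBlocks_multiply, h11, Matrix.mul_apply, Fin.sum_univ_two, Matrix.vecMul, dotProduct] at h
  · show A ^ 2 ^ (1 + 1) = 1
    rw [show (2 : ℕ) ^ (1 + 1) = 2 * 2 by norm_num, pow_mul, pow_two, pow_two]
    ext (i | i) (j | j) <;> fin_cases i <;> fin_cases j <;>
      simp [A, U, fromBlocks_multiply, h11, Matrix.mul_apply, Fin.sum_univ_two, Matrix.vecMul, dotProduct]

/-- All maximal orders occur. -/
theorem psp_exists (hq : 3 ≤ Fintype.card F) {d : ℕ} (hd : Spec p (Fintype.card F) d) :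
    ∃ x : PSp 2 F, orderOf x = d := by
  have hp : p.Prime := Fact.out
  obtain ⟨⟨tP, htP⟩, ⟨tM, htM⟩⟩ := SympOrders.exists_torus (F := F) (show 1 ≤ 2 by norm_num)
  obtain ⟨f, hf1, hf⟩ := card_facts (F := F) (p := p)
  obtain ⟨u, hu⟩ := exists_order_p (F := F) (p := p)
  have hblk : ∀ t : symplecticGroup (Fin 1) F, ¬ p ∣ orderOf t → ∃ x : PSp 2 F, orderOf x = p * orderOf t := by
    intro t ht
    refine ⟨QuotientGroup.mk' (Subgroup.center (symplecticGroup (Fin (1 + 1)) F)) (PrimeOrbitSymp.blockSp 1 1 (t, u)), ?_⟩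
    rw [SympOrders.orderOf_block (p := p) le_rfl t u (k := 1) (by rw [pow_one, ← hu, pow_orderOf_eq_one]), hu,
      Nat.lcm_comm, Nat.Coprime.lcm_eq_mul ((hp.coprime_iff_not_dvd).2 ht)]
  obtain ⟨⟨sP, hsP⟩, ⟨sM, hsM⟩⟩ := SympOrders.exists_torus (F := F) (le_refl 1)
  have hpd : p ∣ Fintype.card F := hf ▸ dvd_pow_self p (by omega)
  rcases hd with rfl | rfl | rfl | rfl | ⟨hp3, rfl⟩
  · exact ⟨π tM, exists_order_big (p := p) hq (Or.inl rfl) tM htM⟩
  · exact ⟨π tP, exists_order_big (p := p) hq (Or.inr rfl) tP htP⟩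
  · rw [pow_one] at hsP
    rw [← hsP]
    exact hblk sP fun h => hp.ne_one (Nat.dvd_one.1 ((Nat.dvd_add_right hpd).1 (hsP ▸ h)))
  · rw [pow_one] at hsM
    rw [← hsM]
    refine hblk sM fun h => hp.ne_one (Nat.dvd_one.1 ?_)
    have := Nat.dvd_sub hpd (hsM ▸ h)
    rwa [Nat.sub_sub_self (by omega : 1 ≤ Fintype.card F)] at this
  · rcases (show p = 2 ∨ p = 3 by have := hp.two_le; omega) with h | h
    · subst h; exact exists_order_four rfl
    · subst h
      have h2 : (2 : F) ≠ 0 := Ring.two_ne_zero (by rw [ringChar.eq F 3]; norm_num)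
      have hcl : Nat.clog 3 4 = 2 := by
        refine le_antisymm (Nat.clog_le_of_le_pow (by norm_num)) ?_
        by_contra hlt
        have := Nat.le_pow_clog (by norm_num : 1 < 3) 4
        interval_cases Nat.clog 3 4 <;> omega
      obtain ⟨v, hv⟩ := SympOrders.exists_unip (p := 3) h2 (show 1 ≤ 2 by norm_num) (i := 2) hcl.ge
      refine ⟨π v, ?_⟩
      rw [show 3 * 3 = 3 ^ 2 by norm_num, ← hv]
      refine orderOf_eq_orderOf_iff.2 fun e => ?_
      rw [← map_pow, QuotientGroup.mk'_apply, QuotientGroup.eq_one_iff]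
      refine ⟨fun h => Fusion.PSp.eq_one_of_mem_center (p := 3) (by norm_num) h (k := 2) ?_, fun h => h ▸ one_mem _⟩
      rw [← pow_mul, mul_comm, pow_mul, ← hv, pow_orderOf_eq_one, one_pow]

end Cfsg.Lib.SpecSymp
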