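import Cfsg.Agent.SpecSymp.Upper
import Cfsg.Agent.Known.SLTwo.Torus

/-! Elements attaining the orders in the affine models. -/

set_option autoImplicit false
set_option linter.style.haveILetI false
set_option linter.unusedSectionVars false

open Matrix
open scoped MatrixGroups Kronecker

namespace Cfsg.Lib.SpecSymp

variable {E : Type*} [Field E] [Fintype E] [DecidableEq E] (p f : ℕ) [Fact p.Prime] [CharP E p]

theorem eq_smul_of_comm {ι : Type*} [Fintype ι] [DecidableEq ι] {A B : Matrix ι ι E}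
    (h : ∀ X, A * X * B = X) : ∃ s : E, A = s • 1 := by
  have hAB : A * B = 1 := by simpa using h 1
  have hBA : B * A = 1 := mul_eq_one_comm.1 hAB
  have hc : ∀ X, A * X = X * A := fun X => by
    conv_rhs => rw [← h X]
    rw [Matrix.mul_assoc _ B A, hBA, Matrix.mul_one]
  obtain ⟨s, hs⟩ := Matrix.mem_range_scalar_iff_commute_single'.2 fun i j => (hc (Matrix.single i j 1)).symm
  exact ⟨s, by rw [← hs, Matrix.scalar_apply, Matrix.smul_one_eq_diagonal]⟩

theorem sl_scalar {g : SL(2, E)} {s : E} (h : (g : Matrix (Fin 2) (Fin 2) E) = s • 1) : s * s = 1 := by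
  have := g.2
  rw [h, Matrix.det_fin_two] at this
  simpa using this

theorem rhoFour_ker {g : SL(2, E)} (h : rhoFour p f g = 1) :
    ∃ c : E, c * c = 1 ∧ (g : Matrix (Fin 2) (Fin 2) E) = c • 1 := by
  obtain ⟨s, hs⟩ := eq_smul_of_comm (A := (g : Matrix (Fin 2) (Fin 2) E)) fun X =>
    (DFunLike.congr_fun h X : rhoFour p f g X = X)
  exact ⟨s, sl_scalar hs, hs⟩

theorem rhoBig_ker {g : SL(2, E)} (h : rhoBig p f g = 1) :
    ∃ c : E, c * c = 1 ∧ (g : Matrix (Fin 2) (Fin 2) E) = c • 1 := by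
  set B := (g : Matrix (Fin 2) (Fin 2) E).map (frobenius E p) with hB
  obtain ⟨s, hs⟩ := eq_smul_of_comm (A := (g : Matrix (Fin 2) (Fin 2) E) ⊗ₖ B) fun X =>
    (DFunLike.congr_fun h X : rhoBig p f g X = X)
  have hdet : B.det = 1 := by rw [hB, ← RingHom.mapMatrix_apply, ← RingHom.map_det, g.2, map_one]
  obtain ⟨k, m, hkm⟩ : ∃ k m, B k m ≠ 0 := by
    by_contra h0
    push Not at h0
    exact one_ne_zero (hdet.symm.trans (by rw [show B = 0 from Matrix.ext h0]; simp))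
  have e : ∀ i j, (g : Matrix (Fin 2) (Fin 2) E) i j * B k m = s * if (i, k) = (j, m) then 1 else 0 := fun i j => by
    have := congrFun (congrFun hs (i, k)) (j, m)
    rwa [Matrix.kronecker_apply, Matrix.smul_apply, Matrix.one_apply, smul_eq_mul] at this
  have hg : (g : Matrix (Fin 2) (Fin 2) E) = ((g : Matrix (Fin 2) (Fin 2) E) 0 0) • 1 := by
    ext i j
    rw [Matrix.smul_apply, Matrix.one_apply, smul_eq_mul]
    apply mul_right_cancel₀ hkm
    by_cases hij : i = j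
    · subst hij
      rw [if_pos rfl, mul_one, e i i, e 0 0]
      simp
    · rw [if_neg hij, mul_zero, zero_mul, e i j, if_neg (fun h => hij (congrArg Prod.fst h)), mul_zero]
  exact ⟨_, sl_scalar hg, hg⟩

/-- The order of the image of an element. -/
theorem order_image {M : Type*} [Monoid M] (ρ : SL(2, E) →* M)
    (hker : ∀ g : SL(2, E), ρ g = 1 ↔ ∃ c : E, c * c = 1 ∧ (g : Matrix (Fin 2) (Fin 2) E) = c • 1)
    (g : SL(2, E)) {n : ℕ} (hn : Nat.gcd 2 (p ^ f - 1) * n = orderOf g) (hf : 1 ≤ f) : orderOf (ρ g) = n := by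
  have hp : p.Prime := Fact.out
  rcases hp.eq_two_or_odd with h2 | h2
  · subst h2
    have hε : Nat.gcd 2 (2 ^ f - 1) = 1 := by
      rcases gcd_two (2 ^ f) with e | e
      · exact e
      · have h1 := Nat.gcd_dvd_right 2 (2 ^ f - 1)
        rw [e] at h1
        have h2 : 2 ∣ 2 ^ f := dvd_pow_self 2 (by omega)
        have := Nat.one_le_two_pow (n := f)
        omega
    rw [hε, one_mul] at hn
    rw [hn]
    refine orderOf_injective ρ ((injective_iff_map_eq_one ρ).2 fun x hx => ?_) g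
    obtain ⟨c, hc, hx⟩ := (hker x).1 hx
    haveI := CharTwo.two_eq_zero (R := E)
    have hc1 : c = 1 := by
      rcases mul_self_eq_one_iff.1 hc with e | e
      · exact e
      · rw [e, CharTwo.neg_eq]
    exact Subtype.ext (by rw [hx, hc1, one_smul]; rfl)
  · have hodd : (p ^ f) % 2 = 1 := by rw [Nat.pow_mod, h2, one_pow]; rfl
    rw [Nat.gcd_eq_left (show 2 ∣ p ^ f - 1 by omega)] at hn
    have h20 : (2 : E) ≠ 0 := Ring.two_ne_zero (by rw [ringChar.eq E p]; omega)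
    refine Nat.dvd_antisymm (orderOf_dvd_of_pow_eq_one ?_) ?_
    · rw [← map_pow, hker]
      rcases Cfsg.Lib.GLTwo.eq_pm_one_of_sq h20 (show g ^ n * g ^ n = 1 by
        rw [← pow_add, ← two_mul, hn, pow_orderOf_eq_one]) with e | e
      · exact ⟨1, one_mul 1, by rw [e, Matrix.SpecialLinearGroup.coe_one, one_smul]⟩
      · exact ⟨-1, by ring, by rw [e, Matrix.SpecialLinearGroup.coe_neg, Matrix.SpecialLinearGroup.coe_one, neg_one_smul]⟩
    · refine Nat.dvd_of_mul_dvd_mul_left two_pos (hn ▸ orderOf_dvd_of_pow_eq_one (Subtype.ext ?_))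
      obtain ⟨c, hc, hx⟩ := (hker (g ^ orderOf (ρ g))).1 (by rw [map_pow, pow_orderOf_eq_one])
      rw [mul_comm, pow_mul, Matrix.SpecialLinearGroup.coe_pow, hx, _root_.smul_pow, one_pow, pow_two, hc, one_smul]
      rfl

theorem rhoFour_iff (g : SL(2, E)) :
    rhoFour p f g = 1 ↔ ∃ c : E, c * c = 1 ∧ (g : Matrix (Fin 2) (Fin 2) E) = c • 1 :=
  ⟨rhoFour_ker p f, fun ⟨_, hc, hg⟩ => rhoFour_scalar p f hc hg⟩

theorem rhoBig_iff (g : SL(2, E)) :
    rhoBig p f g = 1 ↔ ∃ c : E, c * c = 1 ∧ (g : Matrix (Fin 2) (Fin 2) E) = c • 1 :=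
  ⟨rhoBig_ker p f, fun ⟨_, hc, hg⟩ => rhoBig_scalar p f hc hg⟩

/-- The two maximal orders of semisimple elements. -/
theorem exists_big {M : Type*} [Monoid M] (ρ : SL(2, E) →* M)
    (hker : ∀ g : SL(2, E), ρ g = 1 ↔ ∃ c : E, c * c = 1 ∧ (g : Matrix (Fin 2) (Fin 2) E) = c • 1)
    (hf : 1 ≤ f) (hE : Fintype.card E = (p ^ f) ^ 2) {d : ℕ}
    (hd : d = ((p ^ f) ^ 2 - 1) / Nat.gcd 2 (p ^ f - 1) ∨ d = ((p ^ f) ^ 2 + 1) / Nat.gcd 2 (p ^ f - 1)) :
    ∃ g, orderOf (ρ g) = d := by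
  have he := eps_mul (q := p ^ f) (Nat.one_le_pow _ _ (Fact.out : p.Prime).pos)
  rcases hd with rfl | rfl
  · obtain ⟨s, hs⟩ := Cfsg.Lib.GLTwo.exists_orderOf_sub_one (F := E)
    exact ⟨s, order_image p f ρ hker s (by rw [he.1, hs, hE]) hf⟩
  · obtain ⟨s, hs⟩ := Cfsg.Lib.GLTwo.exists_orderOf_add_one (F := E)
    exact ⟨s, order_image p f ρ hker s (by rw [he.2, hs, hE]) hf⟩

theorem exists_unit (k : ℕ) (hk : k ∣ Fintype.card E - 1) : ∃ μ : Eˣ, orderOf μ = k := by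
  obtain ⟨ζ, hζ⟩ := IsCyclic.exists_generator (α := Eˣ)
  have h := orderOf_eq_card_of_forall_mem_zpowers hζ
  rw [Nat.card_units, Nat.card_eq_fintype_card] at h
  obtain ⟨c, hc⟩ := hk
  have := Fintype.one_lt_card (α := E)
  have hc0 : c ≠ 0 := fun e => by rw [e, mul_zero] at hc; omega
  exact ⟨ζ ^ c, by rw [orderOf_pow_of_dvd hc0 (h ▸ hc ▸ dvd_mul_left _ _), h, hc, Nat.mul_div_cancel _ (Nat.pos_of_ne_zero hc0)]⟩

theorem torus_apply (μ : Eˣ) :
    ((Cfsg.Lib.GLTwo.torus μ : SL(2, E)) : Matrix (Fin 2) (Fin 2) E) = !![(μ : E), 0; 0, (((μ⁻¹ : Eˣ)) : E)] := rfl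

theorem torus_map (φ : E →+* E) (μ : Eˣ) :
    ((Cfsg.Lib.GLTwo.torus μ : SL(2, E)) : Matrix (Fin 2) (Fin 2) E).map φ = !![φ μ, 0; 0, (φ μ)⁻¹] := by
  ext i j
  fin_cases i <;> fin_cases j <;> simp [torus_apply]

/-- An element with a fixed vector gives a multiple of the characteristic. -/
theorem exists_of_fixed {V : Type*} [AddCommGroup V] [Module E V] {Γ : Type*} [Group Γ] (ρ : Γ →* AddMonoid.End V)
    (γ : Γ) {n : ℕ} (hn : orderOf (ρ γ) = n) (hn0 : 0 < n) (hpn : ¬ p ∣ n) {v : V} (hv : v ≠ 0) (hfix : ρ γ v = v) :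
    ∃ e : aff ρ, orderOf e = p * n := by
  refine exists_twisted ρ Fact.out (fun w => by rw [← Nat.cast_smul_eq_nsmul E, CharP.cast_eq_zero, zero_smul])
    γ hn hn0 (v := v) ?_
  rw [gsum_fixed _ _ hfix, ← Nat.cast_smul_eq_nsmul E]
  exact smul_ne_zero (fun h => hpn ((CharP.cast_eq_zero_iff E p n).1 h)) hv

theorem q_facts (hf : 1 ≤ f) : 2 ≤ p ^ f ∧ ¬ p ∣ p ^ f + 1 ∧ ¬ p ∣ p ^ f - 1 ∧
    (p ≠ 2 → (p ^ f) % 2 = 1) ∧ (p ^ f) ^ 2 - 1 = (p ^ f + 1) * (p ^ f - 1) := by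
  have hp : p.Prime := Fact.out
  have hd : p ∣ p ^ f := dvd_pow_self p (by omega)
  have h2 : 2 ≤ p ^ f := hp.two_le.trans (Nat.le_of_dvd (pow_pos hp.pos f) hd)
  refine ⟨h2, fun h => hp.not_dvd_one ((Nat.dvd_add_right hd).1 h), fun h => hp.not_dvd_one ?_,
    fun hp2 => by rw [Nat.pow_mod, hp.eq_two_or_odd.resolve_left hp2, one_pow]; rfl,
    by simpa using Nat.sq_sub_sq (p ^ f) 1⟩
  have := Nat.dvd_sub hd h
  rwa [show p ^ f - (p ^ f - 1) = 1 by omega] at this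

theorem mu_pow {μ : Eˣ} {k : ℕ} (hμ : orderOf μ = k) {j : ℕ} (hj : k ∣ j) : (μ : E) ^ j = 1 := by
  rw [← Units.val_pow_eq_pow_val, orderOf_dvd_iff_pow_eq_one.1 (hμ ▸ hj), Units.val_one]

/-- The orders in characteristic two. -/
theorem lower_two (hp : p = 2) (hf : 1 ≤ f) (hE : Fintype.card E = (p ^ f) ^ 2) {d : ℕ} (hd : Spec p (p ^ f) d) :
    ∃ e : aff (rhoFour (E := E) p f), orderOf e = d := by
  obtain ⟨hq2, hn1, hn2, -, hsq⟩ := q_facts p f hf
  have hq0 : (p ^ f) % 2 = 0 := by rw [hp, Nat.pow_mod, Nat.mod_self, zero_pow (by omega)]; rfl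
  have hε : Nat.gcd 2 (p ^ f - 1) = 1 := by
    rcases gcd_two (p ^ f) with e | e
    · exact e
    · have h1 := Nat.gcd_dvd_right 2 (p ^ f - 1)
      rw [e] at h1
      omega
  have hord : ∀ μ : Eˣ, orderOf (rhoFour p f (Cfsg.Lib.GLTwo.torus μ)) = orderOf μ := fun μ => by
    refine order_image p f _ (rhoFour_iff p f) _ ?_ hf
    rw [hε, one_mul, orderOf_injective _ Cfsg.Lib.GLTwo.torus_injective]
  rcases hd with h | h | h | h | ⟨-, h⟩
  · obtain ⟨g, hg⟩ := exists_big p f (rhoFour p f) (rhoFour_iff p f) hf hE (Or.inl h)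
    obtain ⟨e, he⟩ := exists_linear (rhoFour p f) g
    exact ⟨e, he.trans hg⟩
  · obtain ⟨g, hg⟩ := exists_big p f (rhoFour p f) (rhoFour_iff p f) hf hE (Or.inr h)
    obtain ⟨e, he⟩ := exists_linear (rhoFour p f) g
    exact ⟨e, he.trans hg⟩
  · subst h
    obtain ⟨μ, hμ⟩ := exists_unit (E := E) (p ^ f + 1) (by rw [hE, hsq]; exact dvd_mul_right _ _)
    refine exists_of_fixed (E := E) p _ _ ((hord μ).trans hμ) (by omega) hn1 (v := (!![1, 0; 0, 0] : Matrix (Fin 2) (Fin 2) E)) ?_ ?_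
    · intro h; simpa using congrFun (congrFun h 0) 0
    · show ((Cfsg.Lib.GLTwo.torus μ : SL(2, E)) : Matrix (Fin 2) (Fin 2) E) * (!![1, 0; 0, 0] : Matrix (Fin 2) (Fin 2) E) *
        (((Cfsg.Lib.GLTwo.torus μ : SL(2, E)) : Matrix (Fin 2) (Fin 2) E).map (bar p f))ᵀ = (!![1, 0; 0, 0] : Matrix (Fin 2) (Fin 2) E)
      rw [torus_map, bar_def, torus_apply]
      have e : (μ : E) * (μ : E) ^ p ^ f = 1 := by rw [← pow_succ', mu_pow hμ dvd_rfl]
      ext i j
      fin_cases i <;> fin_cases j <;> simp [Matrix.mul_apply, Fin.sum_univ_two, e]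
  · subst h
    obtain ⟨μ, hμ⟩ := exists_unit (E := E) (p ^ f - 1) (by rw [hE, hsq]; exact dvd_mul_left _ _)
    refine exists_of_fixed (E := E) p _ _ ((hord μ).trans hμ) (by omega) hn2 (v := (!![0, 1; 0, 0] : Matrix (Fin 2) (Fin 2) E)) ?_ ?_
    · intro h; simpa using congrFun (congrFun h 0) 1
    · show ((Cfsg.Lib.GLTwo.torus μ : SL(2, E)) : Matrix (Fin 2) (Fin 2) E) * (!![0, 1; 0, 0] : Matrix (Fin 2) (Fin 2) E) *
        (((Cfsg.Lib.GLTwo.torus μ : SL(2, E)) : Matrix (Fin 2) (Fin 2) E).map (bar p f))ᵀ = (!![0, 1; 0, 0] : Matrix (Fin 2) (Fin 2) E)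
      rw [torus_map, bar_def, torus_apply]
      have e : (μ : E) ^ p ^ f = μ := by
        conv_lhs => rw [show p ^ f = p ^ f - 1 + 1 by omega, pow_succ, mu_pow hμ dvd_rfl, one_mul]
      ext i j
      fin_cases i <;> fin_cases j <;> simp [Matrix.mul_apply, Fin.sum_univ_two, e]
  · subst h hp
    let u : SL(2, E) := ⟨!![1, 1; 0, 1], by simp [Matrix.det_fin_two]⟩
    have hum : ((u : SL(2, E)) : Matrix (Fin 2) (Fin 2) E) = !![1, 1; 0, 1] := rfl
    have hu2 : u * u = 1 := Subtype.ext (by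
      rw [Matrix.SpecialLinearGroup.coe_mul, hum, Matrix.SpecialLinearGroup.coe_one]
      ext i j
      fin_cases i <;> fin_cases j <;> simp [u, Matrix.mul_apply, Fin.sum_univ_two, CharTwo.add_self_eq_zero])
    have hne : rhoFour 2 f u ≠ 1 := fun h => by
      obtain ⟨c, -, hc⟩ := rhoFour_ker 2 f h
      simpa [u] using congrFun (congrFun hc 0) 1
    have hu : orderOf (rhoFour 2 f u) = 2 := orderOf_eq_prime (by rw [← map_pow, pow_two, hu2, map_one]) hne
    refine exists_twisted _ Nat.prime_two (fun w => nsmul_zero_mat 2 w) u hu two_pos (v := (!![0, 0; 1, 0] : Matrix (Fin 2) (Fin 2) E)) ?_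
    intro h0
    have := congrFun (congrFun h0 0) 0
    rw [gsum, Finset.sum_range_succ, Finset.sum_range_one, pow_zero, pow_one, end_add, end_one, Matrix.add_apply,
      Matrix.zero_apply, rhoFour, op_apply] at this
    change (!![0, 0; 1, 0] : Matrix (Fin 2) (Fin 2) E) 0 0 +
      ((u : Matrix (Fin 2) (Fin 2) E) * (!![0, 0; 1, 0] : Matrix (Fin 2) (Fin 2) E) *
      ((u : Matrix (Fin 2) (Fin 2) E).map (bar 2 f))ᵀ) 0 0 = 0 at this
    rw [hum] at this
    simp [Matrix.mul_apply, Fin.sum_univ_two] at this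

theorem map_lit (φ : E →+* E) (a b c d : E) : (!![a, b; c, d] : Matrix (Fin 2) (Fin 2) E).map φ = !![φ a, φ b; φ c, φ d] := by
  ext i j
  fin_cases i <;> fin_cases j <;> rfl

theorem diag_fix {ι : Type*} [Fintype ι] [DecidableEq ι] (a b : ι → E) (i j : ι) (h : a i * b j = 1) :
    Matrix.diagonal a * Matrix.single i j (1 : E) * (Matrix.diagonal b)ᵀ = Matrix.single i j 1 := by
  ext x y
  rw [Matrix.diagonal_transpose, Matrix.mul_diagonal, Matrix.diagonal_mul]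
  by_cases hxy : i = x ∧ j = y
  · obtain ⟨rfl, rfl⟩ := hxy
    rw [Matrix.single_apply_same, mul_one, h]
  · rw [Matrix.single_apply_of_ne _ _ _ _ _ hxy, mul_zero, zero_mul]

theorem entry_single {ι : Type*} [Fintype ι] [DecidableEq ι] (A B : Matrix ι ι E) (r c x y : ι) :
    (A * Matrix.single r c (1 : E) * Bᵀ) x y = A x r * B y c := by
  simp [Matrix.mul_apply, Matrix.single, Finset.sum_ite_eq, ite_and, Matrix.transpose_apply]

theorem torus_map_diag (φ : E →+* E) (μ : Eˣ) :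
    ((Cfsg.Lib.GLTwo.torus μ : SL(2, E)) : Matrix (Fin 2) (Fin 2) E).map φ = Matrix.diagonal ![φ μ, (φ μ)⁻¹] := by
  rw [torus_map]
  ext i j
  fin_cases i <;> fin_cases j <;> simp

theorem torus_diag (μ : Eˣ) :
    ((Cfsg.Lib.GLTwo.torus μ : SL(2, E)) : Matrix (Fin 2) (Fin 2) E) = Matrix.diagonal ![(μ : E), (μ : E)⁻¹] := by
  rw [torus_apply]
  ext i j
  fin_cases i <;> fin_cases j <;> simp

/-- The orders in characteristic three. -/
theorem lower_three (hp : p = 3) (hf : 1 ≤ f) (hE : Fintype.card E = (p ^ f) ^ 2) {d : ℕ} (hd : Spec p (p ^ f) d) :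
    ∃ e : aff (rhoBig (E := E) p f), orderOf e = d := by
  obtain ⟨hq2, hn1, hn2, hodd, hsq⟩ := q_facts p f hf
  have hq0 : (p ^ f) % 2 = 1 := hodd (by omega)
  have hε : Nat.gcd 2 (p ^ f - 1) = 2 := Nat.gcd_eq_left (by omega)
  have hord : ∀ (μ : Eˣ) (n : ℕ), orderOf μ = 2 * n → orderOf (rhoBig p f (Cfsg.Lib.GLTwo.torus μ)) = n := fun μ n h => by
    refine order_image p f _ (rhoBig_iff p f) _ ?_ hf
    rw [hε, orderOf_injective _ Cfsg.Lib.GLTwo.torus_injective, h]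
  have hfix : ∀ (μ : Eˣ) (j : Fin 2 × Fin 2),
      (μ : E) ^ 2 * (![bar p f (μ : E), (bar p f (μ : E))⁻¹] j.1 * ![bar p f (μ : E), (bar p f (μ : E))⁻¹] j.2) = 1 →
      rhoBig p f (Cfsg.Lib.GLTwo.torus μ) (Matrix.single (1, 0) j 1) = Matrix.single (1, 0) j 1 := fun μ j h => by
    show (((Cfsg.Lib.GLTwo.torus μ : SL(2, E)) : Matrix (Fin 2) (Fin 2) E) ⊗ₖ
        ((Cfsg.Lib.GLTwo.torus μ : SL(2, E)) : Matrix (Fin 2) (Fin 2) E).map (frobenius E p)) *
        Matrix.single (1, 0) j 1 *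
      ((((Cfsg.Lib.GLTwo.torus μ : SL(2, E)) : Matrix (Fin 2) (Fin 2) E).map (bar p f)) ⊗ₖ
        (((Cfsg.Lib.GLTwo.torus μ : SL(2, E)) : Matrix (Fin 2) (Fin 2) E).map (bar p f)))ᵀ = _
    rw [torus_map_diag, torus_map_diag, torus_diag, Matrix.diagonal_kronecker_diagonal,
      Matrix.diagonal_kronecker_diagonal]
    refine diag_fix _ _ _ _ ?_
    simp only [Matrix.cons_val_one, Matrix.cons_val_zero, frobenius_def]
    rw [show (μ : E)⁻¹ * (μ : E) ^ p = (μ : E) ^ 2 by rw [hp]; field_simp]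
    exact h
  have hne : ∀ j : Fin 2 × Fin 2, (Matrix.single (1, 0) j 1 : Matrix (Fin 2 × Fin 2) (Fin 2 × Fin 2) E) ≠ 0 := fun j h => by
    simpa using congrFun (congrFun h (1, 0)) j
  rcases hd with h | h | h | h | ⟨-, h⟩
  · obtain ⟨g, hg⟩ := exists_big p f (rhoBig p f) (rhoBig_iff p f) hf hE (Or.inl h)
    obtain ⟨e, he⟩ := exists_linear (rhoBig p f) g
    exact ⟨e, he.trans hg⟩
  · obtain ⟨g, hg⟩ := exists_big p f (rhoBig p f) (rhoBig_iff p f) hf hE (Or.inr h)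
    obtain ⟨e, he⟩ := exists_linear (rhoBig p f) g
    exact ⟨e, he.trans hg⟩
  · subst h
    obtain ⟨μ, hμ⟩ := exists_unit (E := E) (2 * (p ^ f + 1)) (by
      rw [hE, hsq, mul_comm]; exact Nat.mul_dvd_mul_left _ (by omega))
    refine exists_of_fixed (E := E) p _ _ (hord μ _ hμ) (by omega) hn1 (hne (0, 0)) (hfix μ _ ?_)
    simp only [Matrix.cons_val_zero, bar_def]
    rw [← pow_add, ← pow_add]
    exact mu_pow hμ ⟨1, by omega⟩
  · subst h
    obtain ⟨μ, hμ⟩ := exists_unit (E := E) (2 * (p ^ f - 1)) (by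
      rw [hE, hsq]; exact Nat.mul_dvd_mul (by omega) dvd_rfl)
    refine exists_of_fixed (E := E) p _ _ (hord μ _ hμ) (by omega) hn2 (hne (1, 1)) (hfix μ _ ?_)
    simp only [Matrix.cons_val_one, Matrix.cons_val_zero, bar_def]
    rw [← mul_inv, mul_inv_eq_one₀ (by simp), ← pow_add]
    conv_rhs => rw [show p ^ f + p ^ f = 2 * (p ^ f - 1) + 2 by omega, pow_add, mu_pow hμ dvd_rfl, one_mul]
  · subst h hp
    let u : SL(2, E) := ⟨!![1, 1; 0, 1], by simp [Matrix.det_fin_two]⟩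
    have hum : ((u : SL(2, E)) : Matrix (Fin 2) (Fin 2) E) = !![1, 1; 0, 1] := rfl
    have hum2 : ((u ^ 2 : SL(2, E)) : Matrix (Fin 2) (Fin 2) E) = !![1, 2; 0, 1] := by
      rw [Matrix.SpecialLinearGroup.coe_pow, hum, pow_two]
      ext i j
      fin_cases i <;> fin_cases j <;> simp [Matrix.mul_apply, Fin.sum_univ_two, one_add_one_eq_two]
    have hu3 : u ^ 3 = 1 := Subtype.ext (by
      rw [pow_succ, Matrix.SpecialLinearGroup.coe_mul, hum, hum2, Matrix.SpecialLinearGroup.coe_one]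
      ext i j
      fin_cases i <;> fin_cases j <;> simp [Matrix.mul_apply, Fin.sum_univ_two]
      linear_combination CharP.cast_eq_zero E 3)
    have hne : rhoBig 3 f u ≠ 1 := fun h => by
      obtain ⟨c, -, hc⟩ := rhoBig_ker 3 f h
      simpa [u] using congrFun (congrFun hc 0) 1
    have hu : orderOf (rhoBig 3 f u) = 3 := orderOf_eq_prime (by rw [← map_pow, hu3, map_one]) hne
    refine exists_twisted _ Nat.prime_three (fun w => nsmul_zero_mat 3 w) u hu (by norm_num)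
      (v := Matrix.single (1, 1) (0, 0) 1) ?_
    intro h0
    have := congrFun (congrFun h0 (0, 0)) (0, 0)
    rw [gsum, Finset.sum_range_succ, Finset.sum_range_succ, Finset.sum_range_one, pow_zero, pow_one, ← map_pow,
      end_add, end_add, end_one, Matrix.add_apply, Matrix.add_apply, Matrix.zero_apply] at this
    have key : ∀ (g : SL(2, E)), rhoBig 3 f g (Matrix.single (1, 1) (0, 0) 1) (0, 0) (0, 0) =
        (g : Matrix (Fin 2) (Fin 2) E) 0 1 * ((g : Matrix (Fin 2) (Fin 2) E) 0 1) ^ 3 *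
          (bar 3 f ((g : Matrix (Fin 2) (Fin 2) E) 0 0) * bar 3 f ((g : Matrix (Fin 2) (Fin 2) E) 0 0)) := fun g => by
      show (((g : Matrix (Fin 2) (Fin 2) E) ⊗ₖ (g : Matrix (Fin 2) (Fin 2) E).map (frobenius E 3)) *
        (Matrix.single (1, 1) (0, 0) 1 : Matrix (Fin 2 × Fin 2) (Fin 2 × Fin 2) E) *
        (((g : Matrix (Fin 2) (Fin 2) E).map (bar 3 f)) ⊗ₖ ((g : Matrix (Fin 2) (Fin 2) E).map (bar 3 f)))ᵀ) (0, 0) (0, 0) = _
      rw [entry_single]
      rfl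
    rw [key, key, hum, hum2, Matrix.single_apply_of_ne _ _ _ _ _ (by simp)] at this
    simp at this
    have h3 : (3 : E) = 0 := by exact_mod_cast CharP.cast_eq_zero E 3
    exact one_ne_zero (show (1 : E) = 0 by linear_combination -this + 6 * h3)

/-- The involution is not in the image of the linear elements. -/
theorem semi_ne_one (hE : Fintype.card E = (p ^ f) ^ 2) (hf : 1 ≤ f) (h : SL(2, E)) : rhoFour p f h * sig p f ≠ 1 := by
  intro e
  obtain ⟨a, ha⟩ : ∃ a : Eˣ, bar p f (a : E) ≠ a := by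
    by_contra hall
    push Not at hall
    obtain ⟨hq2, -, -, -, hsq⟩ := q_facts p f hf
    obtain ⟨ζ, hζ⟩ := exists_unit (E := E) _ (dvd_refl (Fintype.card E - 1))
    have h1 : ζ ^ (p ^ f - 1) = 1 := Units.ext (by
      rw [Units.val_pow_eq_pow_val, Units.val_one]
      exact mul_right_cancel₀ ζ.ne_zero (by rw [← pow_succ, Nat.sub_add_cancel (by omega), one_mul, ← bar_def, hall]))
    have h2 := Nat.le_of_dvd (by omega) (hζ ▸ orderOf_dvd_of_pow_eq_one h1)
    rw [hE, hsq] at h2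
    have : 3 * (p ^ f - 1) ≤ (p ^ f + 1) * (p ^ f - 1) := Nat.mul_le_mul_right _ (by omega)
    omega
  have hX := DFunLike.congr_fun e ((a : E) • (1 : Matrix (Fin 2) (Fin 2) E))
  have h1 := DFunLike.congr_fun e (1 : Matrix (Fin 2) (Fin 2) E)
  change (h : Matrix (Fin 2) (Fin 2) E) * ((1 : Matrix (Fin 2) (Fin 2) E).map (bar p f)) *
    ((h : Matrix (Fin 2) (Fin 2) E).map (bar p f))ᵀ = 1 at h1
  change (h : Matrix (Fin 2) (Fin 2) E) * (((a : E) • (1 : Matrix (Fin 2) (Fin 2) E)).map (bar p f)) *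
    ((h : Matrix (Fin 2) (Fin 2) E).map (bar p f))ᵀ = (a : E) • 1 at hX
  rw [Matrix.map_smul' _ _ _ (map_mul (bar p f)), Matrix.mul_smul, Matrix.smul_mul, h1] at hX
  exact ha (by simpa using congrFun (congrFun hX 0) 0)

theorem rhoTwisted_exists {hE : Fintype.card E = (p ^ f) ^ 2} {y : AddMonoid.End (Matrix (Fin 2) (Fin 2) E)}
    (hy : ∃ u, rhoTwisted p f hE u = y) {n : ℕ} (hn : orderOf y = n) :
    ∃ e : aff (rhoTwisted (E := E) p f hE), orderOf e = n := by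
  obtain ⟨u, rfl⟩ := hy
  obtain ⟨e, he⟩ := exists_linear (rhoTwisted (E := E) p f hE) u
  exact ⟨e, he.trans hn⟩

theorem semi_order (h5 : p ≠ 2) (hE : Fintype.card E = (p ^ f) ^ 2) (hf : 1 ≤ f) (g : SL(2, E)) {z : Eˣ} {k : ℕ}
    (hz : orderOf z = k) (hk : 2 ∣ k)
    (hg : rhoFour p f (g * conj p f g) = rhoFour p f (Cfsg.Lib.GLTwo.torus z)) :
    orderOf (rhoFour p f g * sig p f) = k := by
  obtain ⟨hq2, -, -, hodd, -⟩ := q_facts p f hf
  have hq0 := hodd h5
  obtain ⟨m, rfl⟩ := hk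
  have ho : orderOf (rhoFour p f (Cfsg.Lib.GLTwo.torus z)) = m :=
    order_image p f _ (rhoFour_iff p f) _ (by
      rw [Nat.gcd_eq_left (by omega), orderOf_injective _ Cfsg.Lib.GLTwo.torus_injective, hz]) hf
  set y := rhoFour p f g * sig p f with hy
  have hy2 : ∀ i, y ^ (2 * i) = rhoFour p f (Cfsg.Lib.GLTwo.torus z) ^ i := fun i => by
    rw [pow_mul, hy, twist_sq p f hE, hg]
  refine Nat.dvd_antisymm (orderOf_dvd_of_pow_eq_one (by rw [hy2, ← ho, pow_orderOf_eq_one])) ?_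
  have hj := pow_orderOf_eq_one y
  obtain ⟨i, hi | hi⟩ := Nat.even_or_odd' (orderOf y)
  · rw [hi, hy2] at hj
    rw [hi, ← ho]
    exact Nat.mul_dvd_mul_left 2 (orderOf_dvd_of_pow_eq_one hj)
  · exfalso
    rw [hi, pow_succ, hy2, hy, ← map_pow, twist_mul_left] at hj
    exact semi_ne_one p f hE hf _ hj

/-- The orders in characteristic at least five. -/
theorem lower_five (h5 : 5 ≤ p) (hf : 1 ≤ f) (hE : Fintype.card E = (p ^ f) ^ 2) {d : ℕ} (hd : Spec p (p ^ f) d) :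
    ∃ e : aff (rhoTwisted (E := E) p f hE), orderOf e = d := by
  obtain ⟨hq2, hn1, hn2, hodd, hsq⟩ := q_facts p f hf
  have hq0 : (p ^ f) % 2 = 1 := hodd (by omega)
  rcases hd with h | h | h | h | ⟨h3, -⟩
  · obtain ⟨g, hg⟩ := exists_big p f (rhoFour p f) (rhoFour_iff p f) hf hE (Or.inl h)
    exact rhoTwisted_exists p f (rhoTwisted_lin p f hE g) hg
  · obtain ⟨g, hg⟩ := exists_big p f (rhoFour p f) (rhoFour_iff p f) hf hE (Or.inr h)
    exact rhoTwisted_exists p f (rhoTwisted_lin p f hE g) hg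
  · subst h
    obtain ⟨μ, hμ⟩ := exists_unit (E := E) _ (dvd_refl (Fintype.card E - 1))
    rw [hE, hsq] at hμ
    let g : SL(2, E) := ⟨!![0, (μ : E); -(μ : E)⁻¹, 0], by simp [Matrix.det_fin_two]⟩
    obtain ⟨z, hzdef⟩ : ∃ z : Eˣ, z = (μ ^ (p ^ f - 1))⁻¹ := ⟨_, rfl⟩
    have hz : orderOf z = p ^ f + 1 := by
      rw [hzdef, orderOf_inv, orderOf_pow_of_dvd (by omega) (hμ ▸ dvd_mul_left _ _), hμ, Nat.mul_div_cancel _ (by omega)]
    have hmq : (μ : E) ^ p ^ f = (μ : E) ^ (p ^ f - 1) * μ := by rw [← pow_succ, Nat.sub_add_cancel (by omega)]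
    have hgg : g * conj p f g = (-1) * Cfsg.Lib.GLTwo.torus z := Subtype.ext (by
      rw [Matrix.SpecialLinearGroup.coe_mul, Matrix.SpecialLinearGroup.coe_mul, Matrix.SpecialLinearGroup.coe_neg,
        Matrix.SpecialLinearGroup.coe_one, conj_coe, torus_apply, hzdef]
      show !![0, (μ : E); -(μ : E)⁻¹, 0] * (!![0, (μ : E); -(μ : E)⁻¹, 0]).map (bar p f) = _
      rw [map_lit, map_zero, map_neg, map_inv₀, bar_def, hmq]
      have h0 : (μ : E) ^ (p ^ f - 1) ≠ 0 := pow_ne_zero _ μ.ne_zero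
      ext i j
      fin_cases i <;> fin_cases j <;> simp [Matrix.mul_apply, Fin.sum_univ_two] <;> field_simp)
    have hord := semi_order p f (by omega) hE hf g hz (by omega) (by
      rw [hgg, map_mul, rhoFour_scalar p f (g := -1) (c := -1) (by ring) (by
        rw [Matrix.SpecialLinearGroup.coe_neg, Matrix.SpecialLinearGroup.coe_one, neg_one_smul]), one_mul])
    obtain ⟨u, hu⟩ := rhoTwisted_semi p f hE g
    refine exists_of_fixed (E := E) p (rhoTwisted p f hE) u (hu ▸ hord) (by omega) hn1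
      (v := (!![(μ : E) ^ (p ^ f + 1), 0; 0, 1] : Matrix (Fin 2) (Fin 2) E)) ?_ ?_
    · intro h; simpa using congrFun (congrFun h 1) 1
    · rw [hu]
      show !![0, (μ : E); -(μ : E)⁻¹, 0] * (!![(μ : E) ^ (p ^ f + 1), 0; 0, 1]).map (bar p f) *
        ((!![0, (μ : E); -(μ : E)⁻¹, 0]).map (bar p f))ᵀ = !![(μ : E) ^ (p ^ f + 1), 0; 0, 1]
      have hb : bar p f ((μ : E) ^ (p ^ f + 1)) = (μ : E) ^ (p ^ f + 1) := by
        rw [map_pow, bar_def, ← pow_mul]
        have hz1 : ((μ : E) ^ (p ^ f + 1)) ^ (p ^ f - 1) = 1 := by rw [← pow_mul, mu_pow hμ dvd_rfl]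
        rw [mul_comm, pow_mul]
        conv_lhs => rw [show p ^ f = (p ^ f - 1) + 1 by omega, pow_succ, show (p ^ f - 1) + 1 = p ^ f by omega, hz1, one_mul]
      rw [map_lit, map_lit, hb]
      ext i j
      fin_cases i <;> fin_cases j <;> simp [Matrix.mul_apply, Fin.sum_univ_two]
      · rw [bar_def, ← pow_succ']
      · rw [bar_def]; rw [show (μ : E) ^ (p ^ f + 1) = μ * (μ : E) ^ p ^ f from pow_succ' _ _]; field_simp
  · subst h
    obtain ⟨μ, hμ⟩ := exists_unit (E := E) _ (dvd_refl (Fintype.card E - 1))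
    rw [hE, hsq] at hμ
    have hz : orderOf (μ ^ (p ^ f + 1)) = p ^ f - 1 := by
      rw [orderOf_pow_of_dvd (by omega) (hμ ▸ dvd_mul_right _ _), hμ, Nat.mul_div_cancel_left _ (by omega)]
    have hgg : Cfsg.Lib.GLTwo.torus μ * conj p f (Cfsg.Lib.GLTwo.torus μ) = Cfsg.Lib.GLTwo.torus (μ ^ (p ^ f + 1)) :=
      Subtype.ext (by
        rw [Matrix.SpecialLinearGroup.coe_mul, conj_coe, torus_map, torus_apply, torus_apply, bar_def]
        ext i j
        fin_cases i <;> fin_cases j <;> simp [Matrix.mul_apply, Fin.sum_univ_two, pow_succ', mul_comm])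
    have hord := semi_order p f (by omega) hE hf _ hz (by omega) (by rw [hgg])
    obtain ⟨u, hu⟩ := rhoTwisted_semi p f hE (Cfsg.Lib.GLTwo.torus μ)
    refine exists_of_fixed (E := E) p (rhoTwisted p f hE) u (hu ▸ hord) (by omega) hn2
      (v := (!![0, (μ : E); 0, 0] : Matrix (Fin 2) (Fin 2) E)) ?_ ?_
    · intro h; simpa using congrFun (congrFun h 0) 1
    · rw [hu]
      show ((Cfsg.Lib.GLTwo.torus μ : SL(2, E)) : Matrix (Fin 2) (Fin 2) E) * (!![0, (μ : E); 0, 0]).map (bar p f) *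
        (((Cfsg.Lib.GLTwo.torus μ : SL(2, E)) : Matrix (Fin 2) (Fin 2) E).map (bar p f))ᵀ = !![0, (μ : E); 0, 0]
      rw [torus_map, torus_apply, map_lit]
      ext i j
      fin_cases i <;> fin_cases j <;> simp [Matrix.mul_apply, Fin.sum_univ_two]
  · omega

end Cfsg.Lib.SpecSymp
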