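import Cfsg.Agent.Elementary.FiberSpectrum

/-! Element orders in affine groups. -/

set_option autoImplicit false
set_option linter.unusedSectionVars false

namespace Cfsg.Lib.SpecSymp

variable {V : Type*} [AddCommGroup V] {Γ : Type*} [Group Γ] (ρ : Γ →* AddMonoid.End V)

/-- The affine group of a representation. -/
def aff : Subgroup (Equiv.Perm V) where
  carrier := {e | ∃ γ v, ∀ x, e x = ρ γ x + v}
  one_mem' := ⟨1, 0, fun x => by simp⟩
  mul_mem' := by
    rintro a b ⟨γ, v, ha⟩ ⟨δ, w, hb⟩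
    refine ⟨γ * δ, ρ γ w + v, fun x => ?_⟩
    rw [Equiv.Perm.mul_apply, hb, ha, map_mul, map_add, add_assoc]
    rfl
  inv_mem' := by
    rintro a ⟨γ, v, ha⟩
    refine ⟨γ⁻¹, - ρ γ⁻¹ v, fun x => a.injective ?_⟩
    rw [Equiv.Perm.inv_def, Equiv.apply_symm_apply, ha, map_add, map_neg]
    have h : ∀ y, ρ γ (ρ γ⁻¹ y) = y := fun y => by
      show (ρ γ * ρ γ⁻¹) y = y
      rw [← map_mul, mul_inv_cancel, map_one]; rfl
    rw [h, h, add_assoc, neg_add_cancel, add_zero]

/-- The geometric sum of an operator. -/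
def gsum (T : AddMonoid.End V) (n : ℕ) : AddMonoid.End V := ∑ i ∈ Finset.range n, T ^ i

theorem end_add (f g : AddMonoid.End V) (x : V) : (f + g) x = f x + g x := rfl

theorem end_zero (x : V) : (0 : AddMonoid.End V) x = 0 := rfl

theorem end_one (x : V) : (1 : AddMonoid.End V) x = x := rfl

theorem end_nsmul (n : ℕ) (f : AddMonoid.End V) (x : V) : (n • f) x = n • f x := rfl

theorem pow_apply {e : Equiv.Perm V} {T : AddMonoid.End V} {v : V} (h : ∀ x, e x = T x + v) :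
    ∀ (n : ℕ) (x : V), (e ^ n) x = (T ^ n) x + gsum T n v := by
  intro n
  induction n with
  | zero => intro x; simp [gsum]
  | succ n ih =>
    intro x
    rw [pow_succ, Equiv.Perm.mul_apply, h, ih, map_add, pow_succ, add_assoc]
    congr 1
    rw [gsum, gsum, Finset.sum_range_succ, add_comm]
    rfl

theorem apply_gsum (T : AddMonoid.End V) (n : ℕ) (v : V) : T (gsum T n v) + v = gsum T n v + (T ^ n) v := by
  induction n with
  | zero => simp [gsum]
  | succ n ih =>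
    have h : gsum T (n + 1) v = gsum T n v + (T ^ n) v := by
      rw [gsum, gsum, Finset.sum_range_succ]; rfl
    rw [h, map_add, add_right_comm, ih]
    congr 1
    rw [pow_succ']; rfl

theorem gsum_fpf (T : AddMonoid.End V) {n : ℕ} (hn : T ^ n = 1) (hf : ∀ v, T v = v → v = 0) : gsum T n = 0 := by
  ext v
  refine hf _ ?_
  have h := apply_gsum T n v
  rw [hn] at h
  exact add_right_cancel h

theorem gsum_add (T : AddMonoid.End V) {n : ℕ} (hn : T ^ n = 1) (k : ℕ) : gsum T (k * n) = k • gsum T n := by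
  induction k with
  | zero => simp [gsum]
  | succ k ih =>
    rw [Nat.succ_mul, gsum, Finset.sum_range_add, ← gsum, ih, add_smul, one_smul]
    congr 1
    refine Finset.sum_congr rfl fun i _ => ?_
    rw [pow_add, mul_comm k n, pow_mul, hn, one_pow, one_mul]

theorem gsum_fixed (T : AddMonoid.End V) (n : ℕ) {v : V} (hv : T v = v) : gsum T n v = n • v := by
  induction n with
  | zero => simp [gsum]
  | succ n ih =>
    rw [gsum, Finset.sum_range_succ, ← gsum, end_add, ih, succ_nsmul]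
    congr 1
    clear ih
    induction n with
    | zero => rfl
    | succ n ih => rw [pow_succ]; show (T ^ n) (T v) = v; rw [hv, ih]

theorem translation_mem (v : V) : Equiv.addRight v ∈ aff ρ := ⟨1, v, fun x => by simp⟩

/-- The translations. -/
def trans : Subgroup (aff ρ) where
  carrier := {e | ∃ v, ∀ x, (e : Equiv.Perm V) x = x + v}
  one_mem' := ⟨0, fun x => by simp⟩
  mul_mem' := by
    rintro a b ⟨v, ha⟩ ⟨w, hb⟩
    exact ⟨w + v, fun x => by rw [Subgroup.coe_mul, Equiv.Perm.mul_apply, hb, ha, add_assoc]⟩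
  inv_mem' := by
    rintro a ⟨v, ha⟩
    refine ⟨-v, fun x => (a : Equiv.Perm V).injective ?_⟩
    rw [Subgroup.coe_inv, Equiv.Perm.inv_def, Equiv.apply_symm_apply, ha, add_assoc, neg_add_cancel, add_zero]

instance trans_normal : (trans ρ).Normal := ⟨by
  rintro e ⟨v, he⟩ ⟨a, γ, w, ha⟩
  refine ⟨ρ γ v, fun x => ?_⟩
  simp only [Subgroup.coe_mul, Subgroup.coe_inv, Equiv.Perm.mul_apply]
  obtain ⟨y, rfl⟩ := a.surjective x
  rw [Equiv.Perm.inv_def, Equiv.symm_apply_apply, he, ha, ha, map_add]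
  abel⟩

theorem trans_pow {p : ℕ} (hV : ∀ v : V, p • v = 0) : ∀ e ∈ trans ρ, e ^ p = 1 := by
  rintro e ⟨v, he⟩
  refine Subtype.ext (Equiv.ext fun x => ?_)
  rw [SubmonoidClass.coe_pow, pow_apply (T := 1) (v := v) (fun y => by rw [he]; rfl), one_pow,
    gsum_fixed 1 p rfl, hV, add_zero]
  rfl

theorem trans_ne_bot [Nontrivial V] : trans ρ ≠ ⊥ := by
  obtain ⟨v, hv⟩ := exists_ne (0 : V)
  intro h
  have hm : (⟨Equiv.addRight v, translation_mem ρ v⟩ : aff ρ) ∈ trans ρ := ⟨v, fun x => rfl⟩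
  rw [h, Subgroup.mem_bot] at hm
  have := congrArg (fun e : aff ρ => (e : Equiv.Perm V) 0) hm
  exact hv (by simpa using this)

/-- The elements have their orders under the given bounds. -/
theorem dvd_of_forall {p : ℕ} (hV : ∀ v : V, p • v = 0) (D : ℕ → Prop)
    (h : ∀ γ, ∃ d, D d ∧ ((ρ γ ^ d = 1 ∧ gsum (ρ γ) d = 0) ∨ ∃ n, ρ γ ^ n = 1 ∧ p * n ∣ d)) :
    ∀ e : aff ρ, ∃ d, D d ∧ orderOf e ∣ d := by
  rintro ⟨e, γ, v, he⟩
  obtain ⟨d, hd, hc⟩ := h γ
  refine ⟨d, hd, ?_⟩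
  rw [← Subgroup.orderOf_coe]
  rcases hc with ⟨h1, h2⟩ | ⟨n, h1, h2⟩
  · refine orderOf_dvd_of_pow_eq_one (Equiv.ext fun x => ?_)
    rw [pow_apply he, h1, h2, end_zero, add_zero]; rfl
  · refine (orderOf_dvd_of_pow_eq_one (Equiv.ext fun x => ?_)).trans h2
    rw [pow_apply he, mul_comm p n, pow_mul, h1, one_pow, mul_comm n p, gsum_add _ h1]
    show x + (p • gsum (ρ γ) n) v = x
    rw [end_nsmul, hV, add_zero]

theorem exists_linear (γ : Γ) : ∃ e : aff ρ, orderOf e = orderOf (ρ γ) := by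
  refine ⟨⟨{ toFun := ρ γ, invFun := ρ γ⁻¹, left_inv := fun x => ?_, right_inv := fun x => ?_ }, γ, 0,
    fun x => (add_zero _).symm⟩, ?_⟩
  · show (ρ γ⁻¹ * ρ γ) x = x
    rw [← map_mul, inv_mul_cancel, map_one]; rfl
  · show (ρ γ * ρ γ⁻¹) x = x
    rw [← map_mul, mul_inv_cancel, map_one]; rfl
  · rw [← Subgroup.orderOf_coe, orderOf_eq_orderOf_iff]
    intro k
    rw [Equiv.ext_iff]
    constructor
    · intro h
      refine AddMonoidHom.ext fun x => ?_
      have := h x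
      rw [pow_apply (T := ρ γ) (v := 0) fun y => (add_zero _).symm, map_zero, add_zero] at this
      exact this
    · intro h x
      rw [pow_apply (T := ρ γ) (v := 0) fun y => (add_zero _).symm, h, map_zero, add_zero]
      rfl

theorem exists_twisted {p : ℕ} (hp : p.Prime) (hV : ∀ v : V, p • v = 0) (γ : Γ) {n : ℕ} (hn : orderOf (ρ γ) = n)
    (hn0 : 0 < n) {v : V} (hv : gsum (ρ γ) n v ≠ 0) : ∃ e : aff ρ, orderOf e = p * n := by
  let e₁ : Equiv.Perm V :=
    { toFun := fun x => ρ γ x + v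
      invFun := fun x => ρ γ⁻¹ (x - v)
      left_inv := fun x => by
        show (ρ γ⁻¹) (ρ γ x + v - v) = x
        rw [add_sub_cancel_right]
        show (ρ γ⁻¹ * ρ γ) x = x
        rw [← map_mul, inv_mul_cancel, map_one]; rfl
      right_inv := fun x => by
        show (ρ γ * ρ γ⁻¹) (x - v) + v = x
        rw [← map_mul, mul_inv_cancel, map_one]
        exact sub_add_cancel x v }
  refine ⟨⟨e₁, γ, v, fun x => rfl⟩, ?_⟩
  rw [← Subgroup.orderOf_coe]
  have hT : ρ γ ^ n = 1 := hn ▸ pow_orderOf_eq_one _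
  have hd : orderOf e₁ ∣ p * n := orderOf_dvd_of_pow_eq_one (Equiv.ext fun x => by
    rw [pow_apply (e := e₁) (T := ρ γ) (v := v) (fun y => rfl), mul_comm p n, pow_mul, hT, one_pow, mul_comm n p,
      gsum_add _ hT, end_nsmul, hV, add_zero]
    rfl)
  have hn' : n ∣ orderOf e₁ := by
    rw [← hn]
    refine orderOf_dvd_of_pow_eq_one (AddMonoidHom.ext fun x => ?_)
    have h0 := Equiv.ext_iff.1 (pow_orderOf_eq_one e₁) 0
    have hx := Equiv.ext_iff.1 (pow_orderOf_eq_one e₁) x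
    have he : ∀ y, e₁ y = ρ γ y + v := fun y => rfl
    rw [pow_apply he, map_zero, zero_add] at h0
    rw [pow_apply he, h0, Equiv.Perm.one_apply, add_zero] at hx
    exact hx
  obtain ⟨c, hc⟩ := hn'
  have hcp : c ∣ p := Nat.dvd_of_mul_dvd_mul_left hn0 (by rw [← hc, mul_comm n p]; exact hd)
  rcases (Nat.dvd_prime hp).1 hcp with rfl | rfl
  · exfalso
    rw [mul_one] at hc
    have h := Equiv.ext_iff.1 (pow_orderOf_eq_one e₁) 0
    rw [hc, pow_apply (e := e₁) (T := ρ γ) (v := v) (fun y => rfl), map_zero, zero_add] at h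
    exact hv h
  · exact hc.trans (mul_comm _ _)

theorem range_eq {G H : Type*} [Group G] [Finite G] [Group H] [Finite H] (D : ℕ → Prop)
    (hG : ∀ x : G, ∃ d, D d ∧ orderOf x ∣ d) (hG' : ∀ d, D d → ∃ x : G, orderOf x = d)
    (hH : ∀ x : H, ∃ d, D d ∧ orderOf x ∣ d) (hH' : ∀ d, D d → ∃ x : H, orderOf x = d) :
    Set.range (orderOf : G → ℕ) = Set.range (orderOf : H → ℕ) := by
  refine Set.Subset.antisymm ?_ ?_
  · rintro _ ⟨x, rfl⟩
    obtain ⟨d, hd, hdx⟩ := hG x
    obtain ⟨y, hy⟩ := hH' d hd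
    obtain ⟨c, hc⟩ := hy ▸ hdx
    have hc0 : c ≠ 0 := fun h => (orderOf_pos y).ne' (by rw [hc, h, mul_zero])
    exact ⟨y ^ c, by rw [orderOf_pow_of_dvd hc0 (hc ▸ dvd_mul_left _ _), hc, Nat.mul_div_cancel _ (Nat.pos_of_ne_zero hc0)]⟩
  · rintro _ ⟨x, rfl⟩
    obtain ⟨d, hd, hdx⟩ := hH x
    obtain ⟨y, hy⟩ := hG' d hd
    obtain ⟨c, hc⟩ := hy ▸ hdx
    have hc0 : c ≠ 0 := fun h => (orderOf_pos y).ne' (by rw [hc, h, mul_zero])
    exact ⟨y ^ c, by rw [orderOf_pow_of_dvd hc0 (hc ▸ dvd_mul_left _ _), hc, Nat.mul_div_cancel _ (Nat.pos_of_ne_zero hc0)]⟩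

end Cfsg.Lib.SpecSymp
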