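import Cfsg.Agent.SpecSymp.Twist

/-! Upper bounds for the element orders of affine models of `PSp (4, q)`. -/

set_option autoImplicit false
set_option linter.style.haveILetI false
set_option linter.unusedSectionVars false

open Matrix
open scoped MatrixGroups Kronecker

namespace Cfsg.Lib.SpecSymp

section Eigen

variable {K : Type*} [Field K] {ι : Type*} [Fintype ι] [DecidableEq ι]

theorem ann_map {L : Type*} [Field L] (ψ : K →+* L) {G : Matrix ι ι K} {a b : K}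
    (h : (G - a • 1) * (G - b • 1) = 0) :
    (G.map ψ - ψ a • 1) * (G.map ψ - ψ b • 1) = 0 := by
  have h' := congrArg (RingHom.mapMatrix ψ) h
  simpa only [map_mul, map_sub, map_zero, RingHom.mapMatrix_apply, Matrix.map_smul' _ _ _ (map_mul ψ),
    Matrix.map_one _ ψ.map_zero ψ.map_one] using h'

/-- An eigenvector among the fixed matrices. -/
theorem eig_keep {κ : Type*} [Fintype κ] [DecidableEq κ] {A G : Matrix ι ι K} {R : Matrix κ κ K} {a b : K}
    (h : (A - a • 1) * (A - b • 1) = 0) (hAG : A * G = G * A) {W : Matrix ι κ K} (hW : W ≠ 0)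
    (hfix : G * W * R = W) :
    ∃ W' : Matrix ι κ K, ∃ x : K, W' ≠ 0 ∧ (x = a ∨ x = b) ∧ G * W' * R = W' ∧ A * W' = x • W' ∧
      ∀ (B : Matrix ι ι K) (y : K), B * A = A * B → B * W = y • W → B * W' = y • W' := by
  rcases exists_eig h W with h' | ⟨hne, h'⟩
  · exact ⟨W, b, hW, Or.inr rfl, hfix, h', fun B y _ hB => hB⟩
  · refine ⟨_, a, hne, Or.inl rfl, ?_, h', fun B y hBA hB => by
      have e : B * (A - b • 1) = (A - b • 1) * B := by
        rw [Matrix.mul_sub, Matrix.sub_mul, hBA, Matrix.mul_smul, Matrix.smul_mul, Matrix.mul_one, Matrix.one_mul]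
      rw [← Matrix.mul_assoc, e, Matrix.mul_assoc, hB, Matrix.mul_smul]⟩
    have hc : G * (A - b • 1) = (A - b • 1) * G := by
      rw [Matrix.mul_sub, Matrix.sub_mul, hAG, Matrix.mul_smul, Matrix.smul_mul, Matrix.mul_one, Matrix.one_mul]
    conv_rhs => rw [← hfix]
    rw [← Matrix.mul_assoc G, hc]
    simp only [Matrix.mul_assoc]

theorem kron_one_ann {n : Type*} [Fintype n] [DecidableEq n] {A : Matrix ι ι K} {a b : K}
    (h : (A - a • 1) * (A - b • 1) = 0) :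
    ((A ⊗ₖ (1 : Matrix n n K)) - a • 1) * ((A ⊗ₖ (1 : Matrix n n K)) - b • 1) = 0 := by
  have e : ∀ x : K, (A ⊗ₖ (1 : Matrix n n K)) - x • 1 = (A - x • 1) ⊗ₖ (1 : Matrix n n K) := fun x => by
    rw [sub_eq_iff_eq_add]
    conv_rhs => arg 2; rw [← Matrix.one_kronecker_one, ← Matrix.smul_kronecker]
    rw [← Matrix.add_kronecker, sub_add_cancel]
  rw [e, e, ← Matrix.mul_kronecker_mul, h, Matrix.zero_kronecker]

theorem one_kron_ann {n : Type*} [Fintype n] [DecidableEq n] {A : Matrix ι ι K} {a b : K}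
    (h : (A - a • 1) * (A - b • 1) = 0) :
    (((1 : Matrix n n K) ⊗ₖ A) - a • 1) * (((1 : Matrix n n K) ⊗ₖ A) - b • 1) = 0 := by
  have e : ∀ x : K, ((1 : Matrix n n K) ⊗ₖ A) - x • 1 = (1 : Matrix n n K) ⊗ₖ (A - x • 1) := fun x => by
    rw [sub_eq_iff_eq_add]
    conv_rhs => arg 2; rw [← Matrix.one_kronecker_one, ← Matrix.kronecker_smul]
    rw [← Matrix.kronecker_add, sub_add_cancel]
  rw [e, e, ← Matrix.mul_kronecker_mul, h, Matrix.kronecker_zero]

end Eigen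

section Sum

variable {V : Type*} [AddCommGroup V]

theorem gsum_unipotent (T : AddMonoid.End V) (h : (T - 1) * (T - 1) * (T - 1) = 0) {p : ℕ} (hp : p.Prime)
    (h5 : 5 ≤ p) (hV : ∀ v : V, p • v = 0) : gsum T p = 0 := by
  obtain ⟨U, rfl⟩ : ∃ U, T = 1 + U := ⟨T - 1, (add_sub_cancel _ _).symm⟩
  rw [add_sub_cancel_left] at h
  have hpow : ∀ n, (1 + U) ^ n = 1 + n • U + n.choose 2 • (U * U) := by
    intro n
    induction n with
    | zero => simp
    | succ n ih =>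
      rw [pow_succ, ih, Nat.choose_succ_succ n 1, Nat.choose_one_right]
      simp only [add_mul, mul_add, one_mul, mul_one, smul_mul_assoc, h, nsmul_zero, add_zero, succ_nsmul, add_smul,
        one_smul]
      abel
  have hsum : ∀ n, gsum (1 + U) n = n • 1 + n.choose 2 • U + n.choose 3 • (U * U) := by
    intro n
    induction n with
    | zero => simp [gsum]
    | succ n ih =>
      rw [gsum, Finset.sum_range_succ, ← gsum, ih, hpow, Nat.choose_succ_succ n 1, Nat.choose_succ_succ n 2,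
        Nat.choose_one_right]
      simp only [succ_nsmul, add_smul]
      abel
  have h0 : ∀ k : ℕ, p ∣ k → ∀ W : AddMonoid.End V, k • W = 0 := by
    rintro k ⟨c, rfl⟩ W
    ext v
    rw [end_nsmul, mul_comm, mul_smul, hV, smul_zero, end_zero]
  rw [hsum, h0 p dvd_rfl, h0 _ (hp.dvd_choose_self (by omega) (by omega)), h0 _ (hp.dvd_choose_self (by omega) (by omega)),
    add_zero, add_zero]

theorem gsum_double (T : AddMonoid.End V) (n : ℕ) : gsum T (2 * n) = (1 + T) * gsum (T * T) n := by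
  induction n with
  | zero => simp [gsum]
  | succ n ih =>
    rw [Nat.mul_succ, gsum, gsum, Finset.sum_range_succ, Finset.sum_range_succ, ← gsum, ih,
      Finset.sum_range_succ _ n, ← gsum, mul_add, add_mul (1 : AddMonoid.End V) T ((T * T) ^ n), one_mul,
      ← pow_two, ← pow_mul, pow_succ' T (2 * n), add_assoc]

end Sum

variable {E : Type*} [Field E] [Fintype E] [DecidableEq E] (p f : ℕ) [Fact p.Prime] [CharP E p]

/-- The involution of the field. -/
def bar : E →+* E := iterateFrobenius E p f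

theorem bar_def (x : E) : bar p f x = x ^ p ^ f := iterateFrobenius_def p f x

/-- The small model. -/
def rhoFour : SL(2, E) →* AddMonoid.End (Matrix (Fin 2) (Fin 2) E) := op coeHom (twHom (bar p f))

/-- The large model in characteristic three. -/
def rhoBig : SL(2, E) →* AddMonoid.End (Matrix (Fin 2 × Fin 2) (Fin 2 × Fin 2) E) :=
  op (kronHom coeHom (twHom (frobenius E p))) (kronHom (twHom (bar p f)) (twHom (bar p f)))

theorem rhoFour_scalar {g : SL(2, E)} {c : E} (hc : c * c = 1) (hg : (g : Matrix (Fin 2) (Fin 2) E) = c • 1) :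
    rhoFour p f g = 1 := by
  refine AddMonoidHom.ext fun X => ?_
  show (g : Matrix (Fin 2) (Fin 2) E) * X * ((g : Matrix (Fin 2) (Fin 2) E).map (bar p f))ᵀ = X
  have hcc : bar p f c = c := by rcases mul_self_eq_one_iff.1 hc with e | e <;> simp [e]
  rw [hg, Matrix.map_smul' _ _ _ (map_mul (bar p f)), Matrix.map_one _ (map_zero (bar p f)) (map_one (bar p f)), hcc]
  simp [smul_smul, hc]

theorem rhoBig_scalar {g : SL(2, E)} {c : E} (hc : c * c = 1) (hg : (g : Matrix (Fin 2) (Fin 2) E) = c • 1) :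
    rhoBig p f g = 1 := by
  refine AddMonoidHom.ext fun X => ?_
  show ((g : Matrix (Fin 2) (Fin 2) E) ⊗ₖ (g : Matrix (Fin 2) (Fin 2) E).map (frobenius E p)) * X *
    (((g : Matrix (Fin 2) (Fin 2) E).map (bar p f)) ⊗ₖ ((g : Matrix (Fin 2) (Fin 2) E).map (bar p f)))ᵀ = X
  have hcc : ∀ φ : E →+* E, φ c = c := fun φ => by rcases mul_self_eq_one_iff.1 hc with e | e <;> simp [e]
  rw [hg, Matrix.map_smul' _ _ _ (map_mul (bar p f)), Matrix.map_one _ (map_zero (bar p f)) (map_one (bar p f)), hcc,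
    Matrix.map_smul' _ _ _ (map_mul (frobenius E p)), Matrix.map_one _ (map_zero (frobenius E p))
    (map_one (frobenius E p)), hcc]
  simp [Matrix.smul_kronecker, Matrix.kronecker_smul, Matrix.one_kronecker_one, smul_smul, hc]

theorem pow_p_scalar {g : SL(2, E)} {c : E} (h : ((g : Matrix (Fin 2) (Fin 2) E) - c • 1) ^ 2 = 0) :
    ((g ^ p : SL(2, E)) : Matrix (Fin 2) (Fin 2) E) = c ^ p • 1 := by
  have hp : p.Prime := Fact.out
  have h0 : ((g : Matrix (Fin 2) (Fin 2) E) - c • 1) ^ p = 0 := pow_eq_zero_of_le hp.two_le h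
  rw [sub_pow_char_of_commute p ((Commute.one_right _).smul_right c), _root_.smul_pow, one_pow, sub_eq_zero] at h0
  rw [Matrix.SpecialLinearGroup.coe_pow, h0]

/-- The bound for the linear elements. -/
theorem linear_dvd {V : Type*} [AddCommGroup V] (ρ : SL(2, E) →* AddMonoid.End V) (hf : 1 ≤ f)
    (hE : Fintype.card E = (p ^ f) ^ 2) {K : Type*} [Field K] [IsAlgClosed K] (ι : E →+* K)
    (hker : ∀ (g : SL(2, E)) (c : E), c * c = 1 → (g : Matrix (Fin 2) (Fin 2) E) = c • 1 → ρ g = 1)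
    (hfix : ∀ (g : SL(2, E)) (l : K), l ≠ 0 → l * l ≠ 1 → (l ^ (p ^ f) ^ 2 = l ∨ l ^ (p ^ f) ^ 2 = l⁻¹) →
      ((g : Matrix (Fin 2) (Fin 2) E).map ι - l • 1) * ((g : Matrix (Fin 2) (Fin 2) E).map ι - l⁻¹ • 1) = 0 →
      ∀ v, v ≠ 0 → ρ g v = v →
      (l ^ 2) ^ (p ^ f + 1) = 1 ∨ (l ^ 2) ^ (p ^ f - 1) = 1)
    (hu : p ≤ 3 ∨ ∀ (g : SL(2, E)) (c : E), c * c = 1 → ((g : Matrix (Fin 2) (Fin 2) E) - c • 1) ^ 2 = 0 →
      gsum (ρ g) p = 0)
    (g : SL(2, E)) :
    ∃ d, Spec p (p ^ f) d ∧ ((ρ g ^ d = 1 ∧ gsum (ρ g) d = 0) ∨ ∃ n, ρ g ^ n = 1 ∧ p * n ∣ d) := by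
  obtain ⟨l, hl0, hann, hfr, huni, hsc, -⟩ := sl_cases ι g
  set q := p ^ f with hq
  have hpk : ∀ k, l * l ≠ 1 → l ^ k * l ^ k = 1 → ρ g ^ k = 1 := fun k hll hk => by
    obtain ⟨c, hc, hg⟩ := hsc hll k hk
    rw [← map_pow, hker _ c hc hg]
  by_cases hll : l * l = 1
  · obtain ⟨c, hc, hN⟩ := huni hll
    have hT : ρ g ^ p = 1 := by
      rw [← map_pow, hker _ _ (by rw [← mul_pow, hc, one_pow]) (pow_p_scalar p hN)]
    rcases hu with h3 | h5
    · exact ⟨p * p, Or.inr (Or.inr (Or.inr (Or.inr ⟨h3, rfl⟩))), Or.inr ⟨p, hT, dvd_rfl⟩⟩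
    · refine ⟨p * (q + 1), Or.inr (Or.inr (Or.inl rfl)), Or.inl ⟨by rw [pow_mul, hT, one_pow], ?_⟩⟩
      rw [mul_comm, gsum_add _ hT, h5 g c hc hN, nsmul_zero]
  · have hq1 : 1 ≤ q := Nat.one_le_pow _ _ (Fact.out : p.Prime).pos
    obtain ⟨k, hk, hlk⟩ : ∃ k, Spec p q k ∧ l ^ k * l ^ k = 1 := by
      have key : ∀ k m, l ^ m = 1 → Nat.gcd 2 (q - 1) * k = m → l ^ k * l ^ k = 1 := fun k m hm hkm => by
        rcases gcd_two q with e | e <;> rw [e] at hkm
        · rw [one_mul] at hkm; rw [hkm, hm, one_mul]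
        · rw [← pow_add, ← two_mul, hkm, hm]
      rw [hE] at hfr
      have h1 : 1 ≤ q ^ 2 := Nat.one_le_pow _ _ hq1
      rcases hfr with e | e
      · refine ⟨_, Or.inl rfl, key _ (q ^ 2 - 1) (mul_right_cancel₀ hl0 ?_) (eps_mul hq1).1⟩
        rw [← pow_succ, Nat.sub_add_cancel h1, one_mul, e]
      · exact ⟨_, Or.inr (Or.inl rfl), key _ (q ^ 2 + 1) (by rw [pow_succ, e, inv_mul_cancel₀ hl0]) (eps_mul hq1).2⟩
    by_cases hv : ∀ v, ρ g v = v → v = 0
    · exact ⟨k, hk, Or.inl ⟨hpk k hll hlk, gsum_fpf _ (hpk k hll hlk) hv⟩⟩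
    push Not at hv
    obtain ⟨v, hv, hv0⟩ := hv
    rcases hfix g l hl0 hll (hE ▸ hfr) hann v hv0 hv with e | e
    · exact ⟨p * (q + 1), Or.inr (Or.inr (Or.inl rfl)), Or.inr ⟨q + 1, hpk _ hll (by rw [← mul_pow, ← pow_two, e]), dvd_rfl⟩⟩
    · exact ⟨p * (q - 1), Or.inr (Or.inr (Or.inr (Or.inl rfl))), Or.inr ⟨q - 1, hpk _ hll (by rw [← mul_pow, ← pow_two, e]), dvd_rfl⟩⟩

/-- A fixed eigenvector of a tensor product. -/
theorem eig_kron {K : Type*} [Field K] {G₁ G₂ : Matrix (Fin 2) (Fin 2) K} {a₁ b₁ a₂ b₂ : K}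
    (h₁ : (G₁ - a₁ • 1) * (G₁ - b₁ • 1) = 0) (h₂ : (G₂ - a₂ • 1) * (G₂ - b₂ • 1) = 0)
    {R W : Matrix (Fin 2 × Fin 2) (Fin 2 × Fin 2) K} (hW : W ≠ 0) (hfix : (G₁ ⊗ₖ G₂) * W * R = W) :
    ∃ W' : Matrix (Fin 2 × Fin 2) (Fin 2 × Fin 2) K, ∃ x y, W' ≠ 0 ∧ (x = a₁ ∨ x = b₁) ∧ (y = a₂ ∨ y = b₂) ∧
      (G₁ ⊗ₖ G₂) * W' * R = W' ∧ (G₁ ⊗ₖ G₂) * W' = (x * y) • W' := by
  have hcm : (G₁ ⊗ₖ (1 : Matrix (Fin 2) (Fin 2) K)) * ((1 : Matrix (Fin 2) (Fin 2) K) ⊗ₖ G₂) = G₁ ⊗ₖ G₂ ∧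
      ((1 : Matrix (Fin 2) (Fin 2) K) ⊗ₖ G₂) * (G₁ ⊗ₖ (1 : Matrix (Fin 2) (Fin 2) K)) = G₁ ⊗ₖ G₂ := by
    simp [← Matrix.mul_kronecker_mul]
  obtain ⟨W₁, x, hW₁, hx, hfix₁, hA, -⟩ := eig_keep (kron_one_ann (n := Fin 2) h₁)
    (G := G₁ ⊗ₖ G₂) (R := R) (by simp [← Matrix.mul_kronecker_mul]) hW hfix
  obtain ⟨W', y, hW', hy, hfix', hB, hkeep⟩ := eig_keep (one_kron_ann (n := Fin 2) h₂)
    (G := G₁ ⊗ₖ G₂) (R := R) (by simp [← Matrix.mul_kronecker_mul]) hW₁ hfix₁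
  refine ⟨W', x, y, hW', hx, hy, hfix', ?_⟩
  rw [← hcm.1, Matrix.mul_assoc, hB, Matrix.mul_smul, hkeep _ x (hcm.1.trans hcm.2.symm) hA, smul_smul, mul_comm]

theorem map_bar {K : Type*} [Field K] [CharP K p] (ι : E →+* K) (g : Matrix (Fin 2) (Fin 2) E) :
    (g.map (bar p f)).map ι = (g.map ι).map (iterateFrobenius K p f) := by
  ext i j
  simp [Matrix.map_apply, bar_def, iterateFrobenius_def]

theorem map_frob {K : Type*} [Field K] [CharP K p] (ι : E →+* K) (g : Matrix (Fin 2) (Fin 2) E) :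
    (g.map (frobenius E p)).map ι = (g.map ι).map (frobenius K p) := by
  ext i j
  simp [Matrix.map_apply, frobenius_def]

theorem fix_four {K : Type*} [Field K] [CharP K p] (ι : E →+* K) (g : SL(2, E)) (l : K) (hl0 : l ≠ 0)
    (hann : ((g : Matrix (Fin 2) (Fin 2) E).map ι - l • 1) * ((g : Matrix (Fin 2) (Fin 2) E).map ι - l⁻¹ • 1) = 0)
    (v : Matrix (Fin 2) (Fin 2) E) (hv : v ≠ 0) (hfix : rhoFour p f g v = v) :
    l ^ (p ^ f + 1) = 1 ∨ l ^ (p ^ f - 1) = 1 := by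
  set G := (g : Matrix (Fin 2) (Fin 2) E).map ι with hG
  have h : G * v.map ι * (((g : Matrix (Fin 2) (Fin 2) E).map (bar p f)).map ι)ᵀ = v.map ι := by
    have e := congrArg (fun M : Matrix (Fin 2) (Fin 2) E => M.map ι) hfix
    simp only [rhoFour, op_apply, Matrix.map_mul, Matrix.transpose_map] at e
    exact e
  rw [map_bar] at h
  have hv' : v.map ι ≠ 0 := fun e => hv (Matrix.map_injective ι.injective (e.trans (Matrix.map_zero _ (map_zero ι)).symm))
  obtain ⟨W, x, hW, hx, hWfix, hGW, -⟩ := eig_keep hann rfl hv' h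
  have hx0 : x ≠ 0 := by rcases hx with rfl | rfl; exacts [hl0, inv_ne_zero hl0]
  rw [hGW, Matrix.smul_mul, ← eq_inv_smul_iff₀ hx0] at hWfix
  have hH : (G.map (iterateFrobenius K p f)) * Wᵀ = x⁻¹ • Wᵀ := by
    have e := congrArg Matrix.transpose hWfix
    rwa [Matrix.transpose_mul, Matrix.transpose_transpose, Matrix.transpose_smul] at e
  have := eig_root (ann_map (iterateFrobenius K p f) hann) (Matrix.transpose_eq_zero.not.2 hW) hH
  rw [iterateFrobenius_def, iterateFrobenius_def] at this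
  set q := p ^ f with hq
  have h1 : 1 ≤ q := Nat.one_le_pow _ _ (Fact.out : p.Prime).pos
  have hm : l ^ (q - 1) * l = l ^ q := by rw [← pow_succ, Nat.sub_add_cancel h1]
  rcases hx with rfl | rfl <;> rcases this with e | e
  · left; rw [pow_succ, ← e, inv_mul_cancel₀ hl0]
  · right; rw [inv_pow, _root_.inv_inj] at e; exact mul_right_cancel₀ hl0 (by rw [hm, one_mul, ← e])
  · right; rw [inv_inv] at e; exact mul_right_cancel₀ hl0 (by rw [hm, one_mul, ← e])
  · left; rw [inv_inv, inv_pow] at e; rw [pow_succ]; nth_rw 2 [e]; exact mul_inv_cancel₀ (pow_ne_zero _ hl0)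

theorem rhoFour_unipotent (h5 : 5 ≤ p) (g : SL(2, E)) (c : E) (hc : c * c = 1)
    (hN : ((g : Matrix (Fin 2) (Fin 2) E) - c • 1) ^ 2 = 0) : gsum (rhoFour p f g) p = 0 := by
  have hV : ∀ v : Matrix (Fin 2) (Fin 2) E, p • v = 0 := fun v => by
    rw [← Nat.cast_smul_eq_nsmul E, CharP.cast_eq_zero, zero_smul]
  refine gsum_unipotent _ ?_ Fact.out h5 hV
  obtain ⟨N, hg⟩ : ∃ N, (g : Matrix (Fin 2) (Fin 2) E) = c • 1 + N := ⟨_, (add_sub_cancel _ _).symm⟩
  rw [hg, add_sub_cancel_left, pow_two] at hN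
  set M := (N.map (bar p f))ᵀ with hMdef
  have hcc : bar p f c = c := by rcases mul_self_eq_one_iff.1 hc with e | e <;> simp [e]
  have hM : M * M = 0 := by rw [hMdef, ← Matrix.transpose_mul, ← Matrix.map_mul, hN, Matrix.map_zero _ (map_zero _), Matrix.transpose_zero]
  have hT : ∀ X, (rhoFour p f g - 1) X = c • (N * X) + c • (X * M) + N * X * M := fun X => by
    show (g : Matrix (Fin 2) (Fin 2) E) * X * ((g : Matrix (Fin 2) (Fin 2) E).map (bar p f))ᵀ - X = _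
    rw [hg, Matrix.map_add _ (map_add (bar p f)), Matrix.map_smul' _ _ _ (map_mul (bar p f)),
      Matrix.map_one _ (map_zero (bar p f)) (map_one (bar p f)), hcc, Matrix.transpose_add, Matrix.transpose_smul,
      Matrix.transpose_one, ← hMdef]
    simp only [Matrix.add_mul, Matrix.mul_add, Matrix.smul_mul, Matrix.mul_smul, Matrix.one_mul, Matrix.mul_one,
      smul_smul, smul_add, hc, one_smul]
    abel
  have hn : ∀ Y : Matrix (Fin 2) (Fin 2) E, N * (N * Y) = 0 := fun Y => by rw [← Matrix.mul_assoc, hN, Matrix.zero_mul]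
  have hm : ∀ Y : Matrix (Fin 2) (Fin 2) E, Y * M * M = 0 := fun Y => by rw [Matrix.mul_assoc, hM, Matrix.mul_zero]
  refine AddMonoidHom.ext fun X => ?_
  show (rhoFour p f g - 1) ((rhoFour p f g - 1) ((rhoFour p f g - 1) X)) = 0
  simp only [hT, Matrix.mul_add, Matrix.add_mul, Matrix.mul_smul, Matrix.smul_mul, smul_add, ← Matrix.mul_assoc N (_ * _) M,
    hn, hm, smul_zero, add_zero, zero_add, Matrix.zero_mul, Matrix.mul_zero]
  simp only [Matrix.mul_assoc, hn, hM, Matrix.mul_zero, smul_zero, add_zero, zero_add]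

/-- The products of the weights of the large model. -/
theorem exponent_three {K : Type*} [Field K] [CharP K 3] {q k : ℕ} (hq : q = 3 ^ (k + k)) {l x y z w : K} (hl0 : l ≠ 0)
    (hl2 : l ^ q ^ 2 = l ∨ l ^ q ^ 2 = l⁻¹) (hx : x = l ∨ x = l⁻¹) (hy : y = l ^ 3 ∨ y = (l ^ 3)⁻¹)
    (hz : z = l ^ q ∨ z = (l ^ q)⁻¹) (hw : w = l ^ q ∨ w = (l ^ q)⁻¹) (h : (x * y) * (z * w) = 1) :
    (l ^ 2) ^ (q + 1) = 1 ∨ (l ^ 2) ^ (q - 1) = 1 := by
  have hq1 : 1 ≤ q := hq ▸ Nat.one_le_pow _ _ (by norm_num)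
  set u := l ^ 2 with hu
  have hu0 : u ≠ 0 := pow_ne_zero _ hl0
  have ha : x * y = u ^ 2 ∨ x * y = (u ^ 2)⁻¹ ∨ x * y = u ∨ x * y = u⁻¹ := by
    rcases hx with rfl | rfl <;> rcases hy with rfl | rfl
    · left; rw [hu]; ring
    · right; right; right; rw [hu]; field_simp
    · right; right; left; rw [hu]; field_simp
    · right; left; rw [hu]; field_simp
  have hb : z * w = u ^ q ∨ z * w = (u ^ q)⁻¹ ∨ z * w = 1 := by
    rcases hz with rfl | rfl <;> rcases hw with rfl | rfl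
    · left; rw [hu, ← pow_two, ← pow_mul, ← pow_mul, mul_comm]
    · right; right; exact mul_inv_cancel₀ (pow_ne_zero _ hl0)
    · right; right; exact inv_mul_cancel₀ (pow_ne_zero _ hl0)
    · right; left; rw [hu, ← mul_inv, ← pow_two, ← pow_mul, ← pow_mul, mul_comm]
  have heq : q - 1 + 1 = q := Nat.sub_add_cancel hq1
  have hodd : q % 2 = 1 := by rw [hq, Nat.pow_mod]; norm_num
  have hsq : u ^ 2 = 1 → u ^ (q - 1) = 1 := fun e => by
    rw [show q - 1 = 2 * ((q - 1) / 2) by omega, pow_mul, e, one_pow]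
  have hone : u * u ^ q = 1 → u ^ (q + 1) = 1 := fun e => by rw [pow_succ', e]
  have hm : u ^ q = u → u ^ (q - 1) = 1 := fun e => mul_right_cancel₀ hu0 (by rw [← pow_succ, heq, e, one_mul])
  have htwo : u ^ q = u ^ 2 ∨ u ^ q = (u ^ 2)⁻¹ → u ^ (q + 1) = 1 ∨ u ^ (q - 1) = 1 := fun e => by
    have h4 : u ^ q ^ 2 = u ^ 4 := by
      rw [pow_two q, pow_mul]
      rcases e with e | e <;> rw [e]
      · rw [← pow_mul, mul_comm, pow_mul, e, ← pow_mul]
      · rw [inv_pow, ← pow_mul, mul_comm, pow_mul, e, inv_pow, inv_inv, ← pow_mul]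
    have h35 : u ^ 3 = 1 ∨ u ^ 5 = 1 := by
      have e2 : u ^ q ^ 2 = u ∨ u ^ q ^ 2 = u⁻¹ := by
        rcases hl2 with e2 | e2
        · left; rw [hu, ← pow_mul, mul_comm, pow_mul, e2]
        · right; rw [hu, ← pow_mul, mul_comm, pow_mul, e2, inv_pow]
      rw [h4] at e2
      rcases e2 with e2 | e2
      · left; exact mul_right_cancel₀ hu0 (by rw [← pow_succ, one_mul, e2])
      · right; rw [pow_succ, e2, inv_mul_cancel₀ hu0]
    rcases h35 with h3 | h5
    · haveI : Fact (Nat.Prime 3) := ⟨Nat.prime_three⟩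
      have : (u - 1) ^ 3 = 0 := by rw [sub_pow_char, h3, one_pow, sub_self]
      rw [sub_eq_zero.1 (pow_eq_zero_iff (by norm_num) |>.1 this)]
      exact Or.inl (one_pow _)
    · have h9 : q % 5 = 1 ∨ q % 5 = 4 := by
        rw [hq, ← two_mul, pow_mul]
        clear * -
        induction k with
        | zero => simp
        | succ k ih => rw [pow_succ, Nat.mul_mod]; rcases ih with e | e <;> rw [e] <;> norm_num
      rcases h9 with e | e
      · right; rw [show q - 1 = 5 * ((q - 1) / 5) by omega, pow_mul, h5, one_pow]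
      · left; rw [show q + 1 = 5 * ((q + 1) / 5) by omega, pow_mul, h5, one_pow]
  rcases ha with a | a | a | a <;> rcases hb with b | b | b <;> rw [a, b] at h
  · exact htwo (Or.inr (eq_inv_of_mul_eq_one_right h))
  · exact htwo (Or.inl (eq_of_mul_inv_eq_one h).symm)
  · rw [mul_one] at h; exact Or.inr (hsq h)
  · exact htwo (Or.inl ((inv_mul_eq_one₀ (pow_ne_zero _ hu0)).1 h).symm)
  · exact htwo (Or.inr (by rw [← inv_eq_one, mul_inv, inv_inv, inv_inv] at h; exact eq_inv_of_mul_eq_one_right h))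
  · rw [mul_one, inv_eq_one] at h; exact Or.inr (hsq h)
  · exact Or.inl (hone h)
  · exact Or.inr (hm (eq_of_mul_inv_eq_one h).symm)
  · rw [mul_one] at h; exact Or.inl (by rw [h, one_pow])
  · exact Or.inr (hm (inv_mul_eq_one₀ hu0 |>.1 h).symm)
  · exact Or.inl (hone (by rw [← inv_eq_one, mul_inv, inv_inv, inv_inv] at h; exact h))
  · rw [mul_one, inv_eq_one] at h; exact Or.inl (by rw [h, one_pow])

theorem fix_big {K : Type*} [Field K] [CharP K p] (hp3 : p = 3) (hf2 : Even f) (ι : E →+* K) (g : SL(2, E)) (l : K)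
    (hl0 : l ≠ 0) (hl2 : l ^ (p ^ f) ^ 2 = l ∨ l ^ (p ^ f) ^ 2 = l⁻¹)
    (hann : ((g : Matrix (Fin 2) (Fin 2) E).map ι - l • 1) * ((g : Matrix (Fin 2) (Fin 2) E).map ι - l⁻¹ • 1) = 0)
    (v : Matrix (Fin 2 × Fin 2) (Fin 2 × Fin 2) E) (hv : v ≠ 0) (hfix : rhoBig p f g v = v) :
    (l ^ 2) ^ (p ^ f + 1) = 1 ∨ (l ^ 2) ^ (p ^ f - 1) = 1 := by
  set G := (g : Matrix (Fin 2) (Fin 2) E).map ι with hG
  have kmap : ∀ A B : Matrix (Fin 2) (Fin 2) E, (A ⊗ₖ B).map ι = (A.map ι) ⊗ₖ (B.map ι) := fun A B => by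
    ext i j; simp
  have h : (G ⊗ₖ G.map (frobenius K p)) * v.map ι * ((G.map (iterateFrobenius K p f)) ⊗ₖ (G.map (iterateFrobenius K p f)))ᵀ
      = v.map ι := by
    have e : ((g : Matrix (Fin 2) (Fin 2) E) ⊗ₖ (g : Matrix (Fin 2) (Fin 2) E).map (frobenius E p)) * v *
      (((g : Matrix (Fin 2) (Fin 2) E).map (bar p f)) ⊗ₖ ((g : Matrix (Fin 2) (Fin 2) E).map (bar p f)))ᵀ = v := hfix
    have e' := congrArg (fun M : Matrix (Fin 2 × Fin 2) (Fin 2 × Fin 2) E => M.map ι) e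
    simp only [Matrix.map_mul, Matrix.transpose_map, kmap, map_bar, map_frob] at e'
    exact e'
  have hv' : v.map ι ≠ 0 := fun e => hv (Matrix.map_injective ι.injective (e.trans (Matrix.map_zero _ (map_zero ι)).symm))
  obtain ⟨W, x, y, hW, hx, hy, hWfix, hGW⟩ := eig_kron hann (ann_map (frobenius K p) hann) hv' h
  have hc0 : x * y ≠ 0 := mul_ne_zero (by rcases hx with rfl | rfl; exacts [hl0, inv_ne_zero hl0])
    (by rcases hy with rfl | rfl <;> exact (map_ne_zero _).2 (by simp [hl0]))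
  rw [hGW, Matrix.smul_mul, ← eq_inv_smul_iff₀ hc0] at hWfix
  have hH : ((G.map (iterateFrobenius K p f)) ⊗ₖ (G.map (iterateFrobenius K p f))) * Wᵀ = (x * y)⁻¹ • Wᵀ := by
    have e := congrArg Matrix.transpose hWfix
    rwa [Matrix.transpose_mul, Matrix.transpose_transpose, Matrix.transpose_smul] at e
  obtain ⟨V, z, w, hV, hz, hw, hVfix, hHV⟩ := eig_kron (R := ((x * y) : K) • 1) (ann_map (iterateFrobenius K p f) hann)
    (ann_map (iterateFrobenius K p f) hann) (Matrix.transpose_eq_zero.not.2 hW)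
    (by rw [hH, Matrix.mul_smul, Matrix.mul_one, smul_smul, mul_inv_cancel₀ hc0, one_smul])
  rw [hHV, Matrix.mul_smul, Matrix.mul_one, smul_smul] at hVfix
  have hprod : (x * y) * (z * w) = 1 := by
    by_contra hne
    refine hV ((smul_eq_zero.1 (show ((x * y) * (z * w) - 1) • V = 0 by
      rw [sub_smul, one_smul, hVfix, sub_self])).resolve_left (sub_ne_zero.2 hne))
  simp only [iterateFrobenius_def, frobenius_def, hp3, inv_pow] at hy hz hw hl2 ⊢
  obtain ⟨k, rfl⟩ := hf2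
  subst hp3
  exact exponent_three (q := 3 ^ (k + k)) (k := k) rfl hl0 hl2 hx hy hz hw hprod

end Cfsg.Lib.SpecSymp
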