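import Cfsg.Agent.Known.SympOrders.Spectrum

/-! Element orders of `PSp (4, q)` in every characteristic. -/

set_option autoImplicit false
set_option linter.style.haveILetI false
set_option linter.unusedSectionVars false

open Matrix Polynomial

namespace Cfsg.Lib.SpecSymp

/-- The maximal element orders. -/
def Spec (p q d : ℕ) : Prop :=
  d = (q ^ 2 - 1) / Nat.gcd 2 (q - 1) ∨ d = (q ^ 2 + 1) / Nat.gcd 2 (q - 1) ∨ d = p * (q + 1) ∨ d = p * (q - 1) ∨
    (p ≤ 3 ∧ d = p * p)

theorem gcd_two (q : ℕ) : Nat.gcd 2 (q - 1) = 1 ∨ Nat.gcd 2 (q - 1) = 2 :=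
  (Nat.dvd_prime Nat.prime_two).1 (Nat.gcd_dvd_left 2 (q - 1))

theorem eps_mul {q : ℕ} (hq : 1 ≤ q) :
    Nat.gcd 2 (q - 1) * ((q ^ 2 - 1) / Nat.gcd 2 (q - 1)) = q ^ 2 - 1 ∧
      Nat.gcd 2 (q - 1) * ((q ^ 2 + 1) / Nat.gcd 2 (q - 1)) = q ^ 2 + 1 := by
  have h1 : Nat.gcd 2 (q - 1) ∣ q ^ 2 - 1 := (Nat.gcd_dvd_right 2 (q - 1)).trans (Dvd.intro_left (q + 1) (by
    obtain ⟨k, rfl⟩ := Nat.exists_eq_add_of_le' hq
    simp only [Nat.add_sub_cancel]; rw [Nat.pow_two]; ring_nf; omega))
  refine ⟨Nat.mul_div_cancel' h1, Nat.mul_div_cancel' ?_⟩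
  have h2 : q ^ 2 + 1 = (q ^ 2 - 1) + 2 := by have := Nat.one_le_pow 2 q hq; omega
  rw [h2]
  exact Nat.dvd_add h1 (Nat.gcd_dvd_left _ _)

/-- The larger common multiple. -/
theorem dvd_half_sq {q : ℕ} (hq : 1 ≤ q) :
    q + 1 ∣ (q ^ 2 - 1) / Nat.gcd 2 (q - 1) ∧ q - 1 ∣ (q ^ 2 - 1) / Nat.gcd 2 (q - 1) := by
  have he : q ^ 2 - 1 = (q + 1) * (q - 1) := by simpa using Nat.sq_sub_sq q 1
  rw [he]
  refine ⟨?_, ?_⟩
  · rw [Nat.mul_div_assoc _ (Nat.gcd_dvd_right _ _)]
    exact dvd_mul_right _ _
  · rcases gcd_two q with h | h <;> rw [h]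
    · rw [Nat.div_one]; exact dvd_mul_left _ _
    · have h2 : 2 ∣ q - 1 := h ▸ Nat.gcd_dvd_right 2 (q - 1)
      rw [Nat.mul_comm, Nat.mul_div_assoc _ (by omega)]
      exact dvd_mul_right _ _


theorem root_cases {K : Type*} [Field K] [DecidableEq K] (R : Multiset K) (hcard : Multiset.card R = 4) (h0 : (0 : K) ∉ R)
    (p f q : ℕ) [Fact p.Prime] [CharP K p] (hf : 1 ≤ f) (hq : q = p ^ f)
    (hinv : R.map (·⁻¹) = R) (hfrob : R.map (fun x => x ^ q) = R) :
    ∃ d k e : ℕ, ∃ c : K, Spec p q d ∧ d = k * p ^ e ∧ c * c = 1 ∧ (∀ r ∈ R, r ^ k = c) ∧ ∀ r, R.count r ≤ p ^ e := by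

  have hp : p.Prime := Fact.out
  have hq2 : 2 ≤ q := hq ▸ hp.two_le.trans (Nat.le_self_pow (by omega) p)
  have hqinj : ∀ a b : K, a ^ q = b ^ q → a = b := fun a b h => by
    subst hq
    exact iterateFrobenius_inj K p f h
  have minv : ∀ r ∈ R, r⁻¹ ∈ R := fun r hr => hinv ▸ Multiset.mem_map_of_mem _ hr
  have mfrob : ∀ r ∈ R, r ^ q ∈ R := fun r hr => by
    conv => rw [← hfrob]
    exact Multiset.mem_map_of_mem _ hr
  have cinv : ∀ r, R.count r⁻¹ = R.count r := fun r => by
    conv_lhs => rw [← hinv]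
    exact Multiset.count_map_eq_count' _ _ inv_injective r
  have hle : ∀ s : Multiset K, Multiset.card s = 4 → s ≤ R → R = s := fun s hs h =>
    (Multiset.eq_of_le_of_card_le h (by omega)).symm
  by_cases hA : ∀ r ∈ R, r ^ (q + 1) = 1 ∨ r ^ (q - 1) = 1
  · by_cases hnd : R.Nodup
    · refine ⟨_, _, 0, 1, Or.inl rfl, (mul_one _).symm, mul_one 1, fun r hr => ?_, fun r => ?_⟩
      · rcases hA r hr with h | h
        · obtain ⟨j, hj⟩ := (dvd_half_sq (q := q) (by omega)).1; rw [hj, pow_mul, h, one_pow]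
        · obtain ⟨j, hj⟩ := (dvd_half_sq (q := q) (by omega)).2; rw [hj, pow_mul, h, one_pow]
      · exact Multiset.nodup_iff_count_le_one.1 hnd r
    obtain ⟨a, ha⟩ : ∃ a, 2 ≤ R.count a := by
      by_contra h; push Not at h; exact hnd (Multiset.nodup_iff_count_le_one.2 fun a => Nat.le_of_lt_succ (h a))
    have haR : a ∈ R := Multiset.count_pos.1 (by omega)
    have hone : ∀ r : K, r * r = 1 → r ^ (q + 1) = 1 ∧ r ^ (q - 1) = 1 := by
      intro r hr
      rcases mul_self_eq_one_iff.1 hr with rfl | rfl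
      · simp
      rcases hp.eq_two_or_odd with h2 | h2
      · subst h2
        haveI : CharP K 2 := inferInstance
        simp [CharTwo.neg_eq]
      · have hqo : Odd q := hq ▸ (Nat.odd_iff.2 h2).pow
        obtain ⟨j, hj⟩ := hqo
        exact ⟨Even.neg_one_pow ⟨j + 1, by omega⟩, Even.neg_one_pow ⟨j, by omega⟩⟩
    have single : ∀ b, (∀ r ∈ R, r = b ∨ r = b⁻¹ ∨ r * r = 1) → b ∈ R → (∀ r, R.count r ≤ p) →
        ∃ d k e : ℕ, ∃ c : K, Spec p q d ∧ d = k * p ^ e ∧ c * c = 1 ∧ (∀ r ∈ R, r ^ k = c) ∧ ∀ r, R.count r ≤ p ^ e := by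
      intro b hall hb hcnt
      have hrun : ∀ k, b ^ k = 1 → (∀ r : K, r * r = 1 → r ^ k = 1) → ∀ r ∈ R, r ^ k = 1 := by
        intro k h1 h2 r hr
        rcases hall r hr with rfl | rfl | e
        exacts [h1, by rw [inv_pow, h1, inv_one], h2 r e]
      rcases hA b hb with h | h
      · exact ⟨_, q + 1, 1, 1, Or.inr (Or.inr (Or.inl rfl)), by ring, mul_one 1,
          hrun _ h fun r hr => (hone r hr).1, fun r => (hcnt r).trans (pow_one p).ge⟩
      · exact ⟨_, q - 1, 1, 1, Or.inr (Or.inr (Or.inr (Or.inl rfl))), by ring, mul_one 1,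
          hrun _ h fun r hr => (hone r hr).2, fun r => (hcnt r).trans (pow_one p).ge⟩
    have ha0 : a ≠ 0 := fun e => h0 (e ▸ haR)
    by_cases haa : a⁻¹ = a
    · have ha1 : a * a = 1 := by
        nth_rw 1 [← haa]
        exact inv_mul_cancel₀ ha0
      by_cases hb : ∃ b ∈ R, b * b ≠ 1
      · obtain ⟨b, hb, hb1⟩ := hb
        have hb0 : b ≠ 0 := fun e => h0 (e ▸ hb)
        have hbb : b⁻¹ ≠ b := fun e => hb1 (by nth_rw 1 [← e]; exact inv_mul_cancel₀ hb0)
        have hab : a ≠ b := fun e => hb1 (e ▸ ha1)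
        have hab' : a ≠ b⁻¹ := fun e => hb1 (by
          rw [e, ← mul_inv, inv_eq_one] at ha1; exact ha1)
        have hR : R = {a, a, b, b⁻¹} := hle _ rfl (Multiset.le_iff_count.2 fun r => by
          simp only [Multiset.insert_eq_cons, Multiset.count_cons, Multiset.count_singleton]
          have h1 := Multiset.count_pos.2 hb
          have h2 := Multiset.count_pos.2 (minv b hb)
          rcases eq_or_ne r a with rfl | hra
          · simp [hab, hab']; omega
          rcases eq_or_ne r b with rfl | hrb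
          · simp [hra, hbb.symm]; omega
          rcases eq_or_ne r b⁻¹ with rfl | hrb'
          · simp [hra, hrb]; omega
          · simp [hra, hrb, hrb'])
        refine single b (fun r hr => ?_) hb fun r => ?_
        · rw [hR] at hr
          simp only [Multiset.insert_eq_cons, Multiset.mem_cons, Multiset.mem_singleton] at hr
          rcases hr with rfl | rfl | rfl | rfl <;> simp [ha1]
        · rw [hR]
          simp only [Multiset.insert_eq_cons, Multiset.count_cons, Multiset.count_singleton]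
          have := hp.two_le
          rcases eq_or_ne r a with rfl | hra
          · simp [hab, hab']; omega
          rcases eq_or_ne r b with rfl | hrb
          · simp [hra, hbb.symm]; omega
          rcases eq_or_ne r b⁻¹ with rfl | hrb'
          · simp [hra, hrb]; omega
          · simp [hra, hrb, hrb']
      · push Not at hb
        by_cases hcnt : ∀ r, R.count r ≤ p
        · exact single a (fun r hr => Or.inr (Or.inr (hb r hr))) haR hcnt
        push Not at hcnt
        obtain ⟨z, hz⟩ := hcnt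
        have hzR : z ∈ R := Multiset.count_pos.1 (by omega)
        have hcc := Multiset.count_le_card z R
        have hp3 : p ≤ 3 := by omega
        have hall : ∀ r ∈ R, r = z := by
          rcases (show p = 2 ∨ p = 3 by have := hp.two_le; omega) with rfl | rfl
          · intro r hr
            have h1 : ∀ x ∈ R, x = (1 : K) := fun x hx => by
              rcases mul_self_eq_one_iff.1 (hb x hx) with e | e
              · exact e
              · rw [e, CharTwo.neg_eq]
            rw [h1 r hr, h1 z hzR]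
          · intro r hr
            have : R = Multiset.replicate 4 z := hle _ (Multiset.card_replicate _ _)
              (Multiset.le_iff_count.2 fun x => by
                rcases eq_or_ne x z with rfl | hx
                · rw [Multiset.count_replicate_self]; omega
                · simp only [Multiset.count_replicate]
                  split_ifs with h
                  exacts [absurd h (by tauto), Nat.zero_le _])
            rw [this] at hr
            exact Multiset.eq_of_mem_replicate hr
        refine ⟨p * p, 1, 2, z, Or.inr (Or.inr (Or.inr (Or.inr ⟨hp3, rfl⟩))), by ring, hb z hzR,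
          fun r hr => by rw [pow_one, hall r hr], fun r => ?_⟩
        have := Multiset.count_le_card r R
        have := Nat.pow_le_pow_left hp.two_le 2
        omega
    · have hR : R = {a, a, a⁻¹, a⁻¹} := hle _ rfl (Multiset.le_iff_count.2 fun r => by
        simp only [Multiset.insert_eq_cons, Multiset.count_cons, Multiset.count_singleton]
        have h1 := cinv a
        rcases eq_or_ne r a with rfl | hra
        · simp [Ne.symm haa]; omega
        rcases eq_or_ne r a⁻¹ with rfl | hra'
        · simp [hra]; omega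
        · simp [hra, hra'])
      refine single a (fun r hr => ?_) haR fun r => ?_
      · rw [hR] at hr
        simp only [Multiset.insert_eq_cons, Multiset.mem_cons, Multiset.mem_singleton] at hr
        rcases hr with rfl | rfl | rfl | rfl <;> simp
      · rw [hR]
        simp only [Multiset.insert_eq_cons, Multiset.count_cons, Multiset.count_singleton]
        have := hp.two_le
        rcases eq_or_ne r a with rfl | hra
        · simp [Ne.symm haa]; omega
        rcases eq_or_ne r a⁻¹ with rfl | hra'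
        · simp [hra]; omega
        · simp [hra, hra']
  · push Not at hA
    obtain ⟨l, hl, hlp, hlm⟩ := hA
    have hl0 : l ≠ 0 := fun e => h0 (e ▸ hl)
    have e1 : l ^ q ≠ l := fun e => hlm (by
      have : l ^ (q - 1) * l = l := by rw [← pow_succ, Nat.sub_add_cancel (by omega)]; exact e
      exact mul_right_cancel₀ hl0 (this.trans (one_mul l).symm))
    have e2 : l ^ q ≠ l⁻¹ := fun e => hlp (by rw [pow_succ, e, inv_mul_cancel₀ hl0])
    have e3 : l⁻¹ ≠ l := fun e => by
      have h1 : l * l = 1 := by nth_rw 1 [← e]; exact inv_mul_cancel₀ hl0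
      rcases mul_self_eq_one_iff.1 h1 with rfl | rfl
      · exact e1 (one_pow q)
      · rcases hp.eq_two_or_odd with h2 | h2
        · subst h2
          exact e1 (by simp [CharTwo.neg_eq])
        · exact e1 (hq ▸ (Nat.odd_iff.2 h2).pow : Odd q).neg_one_pow
    have e4 : (l ^ q)⁻¹ ≠ l := fun e => e2 ((inv_inv _).symm.trans (congrArg (·⁻¹) e))
    have e5 : (l ^ q)⁻¹ ≠ l⁻¹ := fun e => e1 (inv_injective e)
    have e6 : (l ^ q)⁻¹ ≠ l ^ q := fun e => e3 (hqinj _ _ (by rw [inv_pow]; exact e))
    have hnd : Multiset.Nodup ({l, l⁻¹, l ^ q, (l ^ q)⁻¹} : Multiset K) := by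
      simp [e1.symm, e2.symm, e3.symm, e4.symm, e5.symm, e6.symm]
    have hR := hle _ (rfl : Multiset.card ({l, l⁻¹, l ^ q, (l ^ q)⁻¹} : Multiset K) = 4)
      ((Multiset.le_iff_subset hnd).2 fun x hx => by
        simp only [Multiset.insert_eq_cons, Multiset.mem_cons, Multiset.mem_singleton] at hx
        rcases hx with rfl | rfl | rfl | rfl
        exacts [hl, minv _ hl, mfrob _ hl, minv _ (mfrob _ hl)])
    have hm := mfrob _ (mfrob _ hl)
    rw [hR] at hm
    simp only [Multiset.insert_eq_cons, Multiset.mem_cons, Multiset.mem_singleton] at hm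
    rw [← pow_mul, ← pow_two] at hm
    obtain ⟨hM, hN⟩ := eps_mul (q := q) (by omega)
    have hk : ∃ k, Spec p q k ∧ l ^ (Nat.gcd 2 (q - 1) * k) = 1 := by
      rcases hm with h | h | h | h
      · refine ⟨_, Or.inl rfl, ?_⟩
        rw [hM]
        refine mul_right_cancel₀ hl0 ?_
        rw [← pow_succ, Nat.sub_add_cancel (Nat.one_le_pow _ _ (by omega)), h, one_mul]
      · refine ⟨_, Or.inr (Or.inl rfl), ?_⟩
        rw [hN, pow_succ, h, inv_mul_cancel₀ hl0]
      · exact absurd (hqinj _ _ (by rw [← pow_mul, ← pow_two]; exact h)) e1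
      · exact absurd (hqinj (l ^ q) l⁻¹ (by rw [← pow_mul, ← pow_two, inv_pow]; exact h)) e2
    obtain ⟨k, hks, hk⟩ := hk
    have hc : l ^ k * l ^ k = 1 := by
      rcases gcd_two q with h | h <;> rw [h] at hk
      · rw [one_mul] at hk; rw [hk, mul_one]
      · rw [← pow_add, ← two_mul]; exact hk
    refine ⟨k, k, 0, l ^ k, hks, by simp, hc, fun r hr => ?_, fun r => ?_⟩
    · have hinvc : (l ^ k)⁻¹ = l ^ k := inv_eq_of_mul_eq_one_right hc
      have hcq : (l ^ k) ^ q = l ^ k := by
        rcases mul_self_eq_one_iff.1 hc with h | h <;> rw [h]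
        · exact one_pow q
        · rcases hp.eq_two_or_odd with h2 | h2
          · subst h2; simp [CharTwo.neg_eq]
          · exact (hq ▸ (Nat.odd_iff.2 h2).pow : Odd q).neg_one_pow
      rw [hR] at hr
      simp only [Multiset.insert_eq_cons, Multiset.mem_cons, Multiset.mem_singleton] at hr
      rcases hr with rfl | rfl | rfl | rfl
      · rfl
      · rw [inv_pow, hinvc]
      · rw [← pow_mul, mul_comm, pow_mul, hcq]
      · rw [inv_pow, ← pow_mul, mul_comm, pow_mul, hcq, hinvc]
    · rw [hR, pow_zero]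
      exact Multiset.nodup_iff_count_le_one.1 hnd r

variable {F : Type*} [Field F] [Fintype F] {p : ℕ} [Fact p.Prime] [CharP F p]

/-- The upper bound for symplectic matrices. -/
theorem pow_scalar (g : symplecticGroup (Fin 2) F) :
    ∃ d, Spec p (Fintype.card F) d ∧ ∃ c : F,
      (g : Matrix (Fin 2 ⊕ Fin 2) (Fin 2 ⊕ Fin 2) F) ^ d = c • 1 := by
  classical
  let K := AlgebraicClosure F
  let ι : F →+* K := algebraMap F K
  haveI : CharP K p := charP_of_injective_algebraMap ι.injective p
  set A : Matrix (Fin 2 ⊕ Fin 2) (Fin 2 ⊕ Fin 2) F := (g : Matrix (Fin 2 ⊕ Fin 2) (Fin 2 ⊕ Fin 2) F) with hA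
  set B : Matrix (Fin 2 ⊕ Fin 2) (Fin 2 ⊕ Fin 2) F :=
    ((g⁻¹ : symplecticGroup (Fin 2) F) : Matrix (Fin 2 ⊕ Fin 2) (Fin 2 ⊕ Fin 2) F) with hB
  have hAB : A * B = 1 := congrArg Subtype.val (mul_inv_cancel g)
  have hu : IsUnit A := IsUnit.of_mul_eq_one _ hAB
  have hdet : A.det ≠ 0 := ((Matrix.isUnit_iff_isUnit_det A).1 hu).ne_zero
  have hBA : A⁻¹ = B := Matrix.inv_eq_right_inv hAB
  have hT : Aᵀ * Matrix.J (Fin 2) F = Matrix.J (Fin 2) F * B := by
    have h1 : Aᵀ * Matrix.J (Fin 2) F * A = Matrix.J (Fin 2) F := SymplecticGroup.mem_iff'.1 g.2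
    calc Aᵀ * Matrix.J (Fin 2) F = Aᵀ * Matrix.J (Fin 2) F * (A * B) := by rw [hAB, Matrix.mul_one]
      _ = Matrix.J (Fin 2) F * B := by rw [← Matrix.mul_assoc, h1]
  have hchar : B.charpoly = A.charpoly := by
    obtain ⟨J, hJ⟩ := (Matrix.isUnit_iff_isUnit_det _).2 (Matrix.isUnit_det_J (Fin 2) F)
    have h1 : Aᵀ = (J : Matrix _ _ F) * B * (↑J⁻¹ : Matrix _ _ F) := by
      rw [hJ, ← hT, ← hJ, Units.mul_inv_cancel_right]
    rw [← Matrix.charpoly_transpose A, h1, Matrix.coe_units_inv]
    exact (Matrix.charpoly_units_conj J B).symm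
  set P : K[X] := A.charpoly.map ι with hP
  have hPm : P.Monic := (Matrix.charpoly_monic A).map ι
  have hPs : P.Splits := IsAlgClosed.splits P
  have hPd : P.natDegree = 4 := by
    rw [hP, natDegree_map, Matrix.charpoly_natDegree_eq_dim]; rfl
  set R := P.roots with hR
  have hcard : Multiset.card R = 4 := by rw [hR, ← hPs.natDegree_eq_card_roots, hPd]
  have h0 : (0 : K) ∉ R := by
    rw [hR, mem_roots hPm.ne_zero, IsRoot.def, hP, ← map_zero ι, eval_map, eval₂_at_apply, ι.injective.eq_iff,
      Matrix.eval_charpoly, map_zero, zero_sub, Matrix.det_neg]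
    simpa using hdet
  have hprod : P = (R.map fun r => X - C r).prod := hPs.eq_prod_roots_of_monic hPm
  have hinv : R.map (·⁻¹) = R := by
    have h1 : P.reverse = (R.map fun r => (1 : K[X]) - C r * X).prod := by
      rw [hprod]
      clear_value R
      clear hcard h0 hR hprod
      induction R using Multiset.induction with
      | empty => simpa using reverse_C (1 : K)
      | cons a s ih =>
        rw [Multiset.map_cons, Multiset.prod_cons, reverse_mul_of_domain, ih, Multiset.map_cons, Multiset.prod_cons]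
        congr 1
        rw [show (X - C a : K[X]) = X * 1 + C (-a) by simp [sub_eq_add_neg], reverse_add_C, reverse_X_mul]
        simp [reverse, sub_eq_add_neg]
    have h2 : (R.map fun r => (1 : K[X]) - C r * X).prod =
        C ((R.map fun r => -r).prod) * ((R.map (·⁻¹)).map fun r => X - C r).prod := by
      rw [Multiset.map_map, map_multiset_prod, Multiset.map_map, ← Multiset.prod_map_mul]
      refine congrArg Multiset.prod (Multiset.map_congr rfl fun r hr => ?_)
      have hr0 : r ≠ 0 := fun e => h0 (e ▸ hr)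
      simp only [Function.comp_apply]
      rw [mul_sub, ← C_mul, neg_mul, mul_inv_cancel₀ hr0, map_neg, map_neg, map_one]
      ring
    have h3 : P = C (A.map ι).det⁻¹ * P.reverse := by
      have hAB' : A.map ι * B.map ι = 1 := by rw [← Matrix.map_mul, hAB, Matrix.map_one _ ι.map_zero ι.map_one]
      have h := Matrix.charpoly_inv (A.map ι) (IsUnit.of_mul_eq_one _ hAB')
      rw [Matrix.inv_eq_right_inv hAB', Matrix.charpoly_map, hchar, ← hP, ← Matrix.reverse_charpoly,
        Matrix.charpoly_map, ← hP, Ring.inverse_eq_inv', Fintype.card_sum] at h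
      norm_num at h
      exact h
    have h4 := h3
    rw [h1, h2, ← mul_assoc, ← C_mul] at h4
    have hne : (A.map ι).det⁻¹ * (R.map fun r => -r).prod ≠ 0 := by
      intro e
      rw [e, map_zero, zero_mul] at h4
      exact hPm.ne_zero h4
    have h5 := congrArg Polynomial.roots h4
    rw [← hR, roots_C_mul _ hne, roots_multiset_prod_X_sub_C] at h5
    exact h5.symm
  obtain ⟨f, hp, hf⟩ := FiniteField.card F p
  have hfrob : R.map (fun x => x ^ Fintype.card F) = R := by
    have h1 : P.map (iterateFrobenius K p f) = P := by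
      rw [hP, Polynomial.map_map]
      congr 1
      ext x
      show (ι x) ^ p ^ (f : ℕ) = ι x
      rw [← hf, ← map_pow, FiniteField.pow_card]
    have h2 := map_roots_le_of_injective P (f := iterateFrobenius K p f) (iterateFrobenius_inj K p f)
    rw [h1, ← hR] at h2
    rw [hf]
    exact Multiset.eq_of_le_of_card_le h2 (by rw [Multiset.card_map])
  obtain ⟨d, k, e, c, hd, hde, hc, hroots, hcnt⟩ := root_cases R hcard h0 p f (Fintype.card F) f.2 hf hinv hfrob
  refine ⟨d, hd, ?_⟩
  have hdvd : P ∣ (X ^ k - C c) ^ p ^ e := by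
    have hk0 : (X ^ k - C c : K[X]) ≠ 0 ∨ k = 0 := by
      rcases Nat.eq_zero_or_pos k with h | h
      · exact Or.inr h
      · exact Or.inl (monic_X_pow_sub_C c h.ne').ne_zero
    rcases eq_or_ne (X ^ k - C c : K[X]) 0 with hz | hz
    · rw [hz, zero_pow (pow_ne_zero _ hp.ne_zero)]; exact dvd_zero _
    refine hPs.dvd_of_roots_le_roots hPm.ne_zero ?_
    rw [roots_pow, ← hR, Multiset.le_iff_count]
    intro r
    rw [Multiset.count_nsmul]
    rcases Nat.eq_zero_or_pos (R.count r) with h | h
    · omega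
    · have hmem : r ∈ (X ^ k - C c : K[X]).roots := by
        rw [mem_roots hz]
        simp [hroots r (Multiset.count_pos.1 h)]
      calc R.count r ≤ p ^ e * 1 := by rw [mul_one]; exact hcnt r
        _ ≤ _ := Nat.mul_le_mul le_rfl (Multiset.count_pos.2 hmem)
  have hcp : c ^ p ^ e * c ^ p ^ e = 1 := by rw [← mul_pow, hc, one_pow]
  rw [sub_pow_char_pow (p := p), ← pow_mul, ← hde, ← C_pow] at hdvd
  obtain ⟨c', hc'⟩ : ∃ c' : F, ι c' = c ^ p ^ e := by
    rcases mul_self_eq_one_iff.1 hcp with h | h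
    · exact ⟨1, by rw [h, map_one]⟩
    · exact ⟨-1, by rw [h, map_neg, map_one]⟩
  refine ⟨c', ?_⟩
  rw [← hc', hP, show (X ^ d - C (ι c') : K[X]) = (X ^ d - C c').map ι by simp,
    Polynomial.map_dvd_map ι ι.injective (Matrix.charpoly_monic A)] at hdvd
  obtain ⟨Q, hQ⟩ := hdvd
  have := congrArg (aeval A) hQ
  rw [map_mul, Matrix.aeval_self_charpoly, zero_mul, map_sub, map_pow, aeval_X, aeval_C, sub_eq_zero,
    Algebra.algebraMap_eq_smul_one] at this
  exact this

/-- The upper bound for the projective group. -/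
theorem psp_dvd (x : PSp 2 F) : ∃ d, Spec p (Fintype.card F) d ∧ orderOf x ∣ d := by
  obtain ⟨g, rfl⟩ := QuotientGroup.mk'_surjective (Subgroup.center (symplecticGroup (Fin 2) F)) x
  obtain ⟨d, hd, c, hc⟩ := pow_scalar (p := p) g
  refine ⟨d, hd, orderOf_dvd_of_pow_eq_one ?_⟩
  rw [← map_pow, QuotientGroup.mk'_apply, QuotientGroup.eq_one_iff, Subgroup.mem_center_iff]
  intro z
  refine Subtype.ext ?_
  rw [Submonoid.coe_mul, Submonoid.coe_mul, SubmonoidClass.coe_pow, hc, Matrix.mul_smul, Matrix.smul_mul,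
    Matrix.mul_one, Matrix.one_mul]

end Cfsg.Lib.SpecSymp
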