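import Cfsg.Agent.SpecSymp.Affine
import Cfsg.Agent.SpecSymp.Symp

/-! Tensor products of twisted natural modules of `SL (2, q²)`. -/

set_option autoImplicit false
set_option linter.style.haveILetI false
set_option linter.unusedSectionVars false

open Matrix Polynomial
open scoped MatrixGroups Kronecker

namespace Cfsg.Lib.SpecSymp

/-- Two successive eigenvalues. -/
theorem exists_eig {K : Type*} [Field K] {ι κ : Type*} [Fintype ι] [DecidableEq ι] {G : Matrix ι ι K} {a b : K}
    (h : (G - a • 1) * (G - b • 1) = 0) (W : Matrix ι κ K) :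
    (G * W = b • W) ∨ ((G - b • 1) * W ≠ 0 ∧ G * ((G - b • 1) * W) = a • ((G - b • 1) * W)) := by
  by_cases h0 : (G - b • 1) * W = 0
  · left
    rwa [Matrix.sub_mul, Matrix.smul_mul, Matrix.one_mul, sub_eq_zero] at h0
  · right
    refine ⟨h0, ?_⟩
    have := congrArg (· * W) h
    simp only [Matrix.zero_mul] at this
    rw [Matrix.mul_assoc] at this
    generalize (G - b • 1) * W = V at this ⊢
    rwa [Matrix.sub_mul, Matrix.smul_mul, Matrix.one_mul, sub_eq_zero] at this

theorem eig_root {K : Type*} [Field K] {ι κ : Type*} [Fintype ι] [DecidableEq ι] {G : Matrix ι ι K} {a b c : K}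
    (h : (G - a • 1) * (G - b • 1) = 0) {W : Matrix ι κ K} (hW : W ≠ 0) (hc : G * W = c • W) : c = a ∨ c = b := by
  have hs : ∀ x : K, (G - x • 1) * W = (c - x) • W := fun x => by
    rw [Matrix.sub_mul, hc, Matrix.smul_mul, Matrix.one_mul, sub_smul]
  have h' : ((c - a) * (c - b)) • W = 0 := by
    rw [mul_comm, mul_smul, ← hs a, ← Matrix.mul_smul, ← hs b, ← Matrix.mul_assoc, h, Matrix.zero_mul]
  rcases mul_eq_zero.1 ((smul_eq_zero.1 h').resolve_right hW) with e | e
  exacts [Or.inl (sub_eq_zero.1 e), Or.inr (sub_eq_zero.1 e)]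

section SL

variable {E : Type*} [Field E]

/-- Matrices of the special linear group. -/
def coeHom : SL(2, E) →* Matrix (Fin 2) (Fin 2) E where
  toFun g := g
  map_one' := Matrix.SpecialLinearGroup.coe_one
  map_mul' := Matrix.SpecialLinearGroup.coe_mul

/-- A twisted natural representation. -/
def twHom (φ : E →+* E) : SL(2, E) →* Matrix (Fin 2) (Fin 2) E :=
  (RingHom.mapMatrix φ).toMonoidHom.comp coeHom

/-- The Kronecker product of two representations. -/
def kronHom (a b : SL(2, E) →* Matrix (Fin 2) (Fin 2) E) : SL(2, E) →* Matrix (Fin 2 × Fin 2) (Fin 2 × Fin 2) E where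
  toFun g := a g ⊗ₖ b g
  map_one' := by simp [Matrix.one_kronecker_one]
  map_mul' g h := by simp [Matrix.mul_kronecker_mul]

/-- The action on matrices. -/
def op {ι : Type*} [Fintype ι] [DecidableEq ι] (a b : SL(2, E) →* Matrix ι ι E) :
    SL(2, E) →* AddMonoid.End (Matrix ι ι E) where
  toFun g :=
    { toFun := fun X => a g * X * (b g)ᵀ
      map_zero' := by simp
      map_add' := fun X Y => by simp [Matrix.mul_add, Matrix.add_mul] }
  map_one' := AddMonoidHom.ext fun X => by simp; rfl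
  map_mul' g h := AddMonoidHom.ext fun X => by
    show a (g * h) * X * (b (g * h))ᵀ = a g * (a h * X * (b h)ᵀ) * (b g)ᵀ
    simp [Matrix.transpose_mul, Matrix.mul_assoc]

theorem op_apply {ι : Type*} [Fintype ι] [DecidableEq ι] (a b : SL(2, E) →* Matrix ι ι E) (g : SL(2, E))
    (X : Matrix ι ι E) : op a b g X = a g * X * (b g)ᵀ := rfl

/-- The characteristic roots of an element. -/
theorem sl_cases [Fintype E] {K : Type*} [Field K] [IsAlgClosed K] (ι : E →+* K) (g : SL(2, E)) :
    ∃ l : K, l ≠ 0 ∧ ((g : Matrix (Fin 2) (Fin 2) E).map ι - l • 1) *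
        ((g : Matrix (Fin 2) (Fin 2) E).map ι - l⁻¹ • 1) = 0 ∧
      (l ^ Fintype.card E = l ∨ l ^ Fintype.card E = l⁻¹) ∧
      (l * l = 1 → ∃ c : E, c * c = 1 ∧ ((g : Matrix (Fin 2) (Fin 2) E) - c • 1) ^ 2 = 0) ∧
      (l * l ≠ 1 → ∀ k : ℕ, l ^ k * l ^ k = 1 → ∃ c : E, c * c = 1 ∧ ((g ^ k : SL(2, E)) : Matrix (Fin 2) (Fin 2) E) = c • 1) ∧
      (∀ j : ℕ, (∀ p, CharP E p → ∃ i : ℕ, j = p ^ i) →
        (g : Matrix (Fin 2) (Fin 2) E).trace ^ j = (g : Matrix (Fin 2) (Fin 2) E).trace → l ^ j = l ∨ l ^ j = l⁻¹) := by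
  classical
  set G := (g : Matrix (Fin 2) (Fin 2) E).map ι with hG
  set t := (g : Matrix (Fin 2) (Fin 2) E).trace with ht
  obtain ⟨l, hl⟩ := IsAlgClosed.exists_root (X ^ 2 - C (ι t) * X + C 1 : K[X]) (by
    have : (X ^ 2 - C (ι t) * X + C 1 : K[X]).natDegree = 2 := by compute_degree!
    intro e; rw [natDegree_eq_of_degree_eq_some e] at this; exact absurd this (by decide))
  simp only [IsRoot.def, eval_add, eval_sub, eval_pow, eval_X, eval_mul, eval_C] at hl
  have hl0 : l ≠ 0 := fun e => by simp [e] at hl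
  have htl : ι t = l + l⁻¹ := by
    field_simp
    linear_combination -hl
  have hCH : (g : Matrix (Fin 2) (Fin 2) E) * g - t • (g : Matrix (Fin 2) (Fin 2) E) + 1 = 0 := by
    have h := Matrix.aeval_self_charpoly (g : Matrix (Fin 2) (Fin 2) E)
    rw [Matrix.charpoly_fin_two, g.2] at h
    simpa [pow_two, Algebra.smul_def, ht] using h
  have hann : (G - l • 1) * (G - l⁻¹ • 1) = 0 := by
    have h := congrArg (RingHom.mapMatrix ι) hCH
    rw [map_add, map_sub, map_mul, map_one, map_zero, RingHom.mapMatrix_apply, RingHom.mapMatrix_apply, ← hG,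
      Matrix.map_smul' _ _ _ (map_mul ι), ← hG, htl] at h
    rw [← h]
    simp only [Matrix.sub_mul, Matrix.mul_sub, Matrix.smul_mul, Matrix.mul_smul, Matrix.one_mul, Matrix.mul_one,
      smul_sub, smul_smul, inv_mul_cancel₀ hl0, mul_inv_cancel₀ hl0, one_smul, add_smul]
    abel
  have hrt : ∀ x : K, x * x - ι t * x + 1 = 0 → x = l ∨ x = l⁻¹ := fun x hx => by
    rcases mul_eq_zero.1 (show (x - l) * (x - l⁻¹) = 0 by
      rw [htl] at hx; linear_combination hx + (mul_inv_cancel₀ hl0)) with e | e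
    · exact Or.inl (sub_eq_zero.1 e)
    · exact Or.inr (sub_eq_zero.1 e)
  have hfr : ∀ j : ℕ, (∀ p, CharP E p → ∃ i : ℕ, j = p ^ i) → t ^ j = t → l ^ j = l ∨ l ^ j = l⁻¹ := by
    intro j hj hφt
    obtain ⟨p, hp⟩ := CharP.exists E
    haveI : Fact p.Prime := ⟨CharP.char_is_prime E p⟩
    haveI : CharP K p := charP_of_injective_ringHom ι.injective p
    refine hrt _ ?_
    obtain ⟨i, hi⟩ := hj p hp
    have h1 : (l + l⁻¹) ^ j = l ^ j + (l ^ j)⁻¹ := by
      rw [hi, add_pow_char_pow, inv_pow]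
    have h2 : (ι t) ^ j = ι t := by rw [← map_pow, hφt]
    rw [htl] at h2
    rw [htl, ← h2, h1]
    field_simp
    ring
  refine ⟨l, hl0, hann, hfr (Fintype.card E) (fun p hp => by
    haveI := hp
    obtain ⟨n, -, hn⟩ := FiniteField.card E p
    exact ⟨n, hn⟩) (FiniteField.pow_card t), ?_, ?_, hfr⟩
  · intro hll
    obtain ⟨c, hc⟩ : ∃ c : E, ι c = l := by
      rcases mul_self_eq_one_iff.1 hll with rfl | rfl
      exacts [⟨1, map_one ι⟩, ⟨-1, by rw [map_neg, map_one]⟩]
    refine ⟨c, ι.injective (by rw [map_mul, hc, hll, map_one]), ?_⟩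
    apply Matrix.map_injective ι.injective
    show RingHom.mapMatrix ι _ = RingHom.mapMatrix ι 0
    rw [map_pow, map_sub, map_zero, RingHom.mapMatrix_apply, RingHom.mapMatrix_apply,
      Matrix.map_smul' _ _ _ (map_mul ι), Matrix.map_one _ ι.map_zero ι.map_one, hc, pow_two, ← hG]
    rwa [inv_eq_of_mul_eq_one_right hll] at hann
  · intro hll k hk
    obtain ⟨c, hc, hck⟩ : ∃ c : E, c * c = 1 ∧ ι c = l ^ k := by
      rcases mul_self_eq_one_iff.1 hk with e | e
      exacts [⟨1, one_mul 1, by rw [e, map_one]⟩, ⟨-1, by ring, by rw [e, map_neg, map_one]⟩]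
    refine ⟨c, hc, Matrix.map_injective ι.injective ?_⟩
    have hcop : IsCoprime (X - C l) (X - C l⁻¹) := isCoprime_X_sub_C_of_isUnit_sub
      (IsUnit.mk0 _ (sub_ne_zero.2 fun e => hll (by nth_rw 2 [e]; exact mul_inv_cancel₀ hl0)))
    obtain ⟨Q, hQ⟩ : (X - C l) * (X - C l⁻¹) ∣ (X ^ k - C (l ^ k) : K[X]) := by
      refine hcop.mul_dvd (dvd_iff_isRoot.2 ?_) (dvd_iff_isRoot.2 ?_)
      · simp
      · simp [inv_eq_of_mul_eq_one_right hk]
    have := congrArg (aeval G) hQ
    simp only [map_mul, map_sub, map_pow, aeval_X, aeval_C, Algebra.algebraMap_eq_smul_one] at this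
    simp only [_root_.smul_pow, one_pow] at this
    rw [hann, zero_mul, sub_eq_zero] at this
    show RingHom.mapMatrix ι _ = RingHom.mapMatrix ι _
    rw [Matrix.SpecialLinearGroup.coe_pow, map_pow, RingHom.mapMatrix_apply, RingHom.mapMatrix_apply,
      Matrix.map_smul' _ _ _ (map_mul ι), Matrix.map_one _ ι.map_zero ι.map_one, hck, ← hG]
    exact this

end SL

end Cfsg.Lib.SpecSymp
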