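import Cfsg.Agent.SpecSymp.Model

/-! The three affine models. -/

set_option autoImplicit false
set_option linter.style.haveILetI false
set_option linter.unusedSectionVars false

open Matrix
open scoped MatrixGroups Kronecker

namespace Cfsg.Lib.SpecSymp

variable {E : Type*} [Field E] [Fintype E] [DecidableEq E] (p f : ℕ) [Fact p.Prime] [CharP E p]

theorem bar_bar (hE : Fintype.card E = (p ^ f) ^ 2) (x : E) : bar p f (bar p f x) = x := by
  rw [bar_def, bar_def, ← pow_mul, ← pow_two, ← hE, FiniteField.pow_card]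

/-- The semilinear involution of the small model. -/
def sig : AddMonoid.End (Matrix (Fin 2) (Fin 2) E) where
  toFun X := X.map (bar p f)
  map_zero' := Matrix.map_zero _ (map_zero _)
  map_add' X Y := Matrix.map_add _ (map_add (bar p f)) X Y

theorem sig_sq (hE : Fintype.card E = (p ^ f) ^ 2) : sig (E := E) p f * sig p f = 1 := by
  refine AddMonoidHom.ext fun X => Matrix.ext fun i j => ?_
  exact bar_bar p f hE _

/-- The Galois conjugate of an element. -/
def conj : SL(2, E) →* SL(2, E) := Matrix.SpecialLinearGroup.map (bar p f)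

theorem conj_coe (g : SL(2, E)) :
    ((conj p f g : SL(2, E)) : Matrix (Fin 2) (Fin 2) E) = (g : Matrix (Fin 2) (Fin 2) E).map (bar p f) := rfl

theorem conj_conj (hE : Fintype.card E = (p ^ f) ^ 2) (g : SL(2, E)) : conj p f (conj p f g) = g :=
  Subtype.ext (Matrix.ext fun _ _ => bar_bar p f hE _)

theorem sig_mul (hE : Fintype.card E = (p ^ f) ^ 2) (g : SL(2, E)) :
    sig p f * rhoFour p f g = rhoFour p f (conj p f g) * sig p f := by
  refine AddMonoidHom.ext fun X => ?_
  show ((g : Matrix (Fin 2) (Fin 2) E) * X * ((g : Matrix (Fin 2) (Fin 2) E).map (bar p f))ᵀ).map (bar p f) =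
    (g : Matrix (Fin 2) (Fin 2) E).map (bar p f) * X.map (bar p f) *
      ((((g : Matrix (Fin 2) (Fin 2) E).map (bar p f))).map (bar p f))ᵀ
  simp only [Matrix.map_mul, Matrix.transpose_map]

theorem twist_mul (hE : Fintype.card E = (p ^ f) ^ 2) (g h : SL(2, E)) :
    rhoFour p f g * sig p f * (rhoFour p f h * sig p f) = rhoFour p f (g * conj p f h) := by
  rw [map_mul, mul_assoc, ← mul_assoc (sig p f), sig_mul p f hE, mul_assoc, sig_sq p f hE, mul_one]

theorem twist_mul_left (g h : SL(2, E)) :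
    rhoFour p f g * (rhoFour p f h * sig p f) = rhoFour p f (g * h) * sig p f := by
  rw [map_mul, mul_assoc]

theorem twist_mul_right (hE : Fintype.card E = (p ^ f) ^ 2) (g h : SL(2, E)) :
    rhoFour p f g * sig p f * rhoFour p f h = rhoFour p f (g * conj p f h) * sig p f := by
  rw [map_mul, mul_assoc, sig_mul p f hE, mul_assoc]

/-- The semilinear group. -/
def twisted (hE : Fintype.card E = (p ^ f) ^ 2) : Subgroup (AddMonoid.End (Matrix (Fin 2) (Fin 2) E))ˣ where
  carrier := {u : (AddMonoid.End (Matrix (Fin 2) (Fin 2) E))ˣ | ∃ g : SL(2, E),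
    Units.val u = rhoFour p f g ∨ Units.val u = rhoFour p f g * sig p f}
  one_mem' := ⟨1, Or.inl (by simp)⟩
  mul_mem' := by
    rintro a b ⟨g, hg⟩ ⟨h, hh⟩
    rcases hg with hg | hg <;> rcases hh with hh | hh
    · exact ⟨g * h, Or.inl (by rw [Units.val_mul, hg, hh, map_mul])⟩
    · exact ⟨g * h, Or.inr (by rw [Units.val_mul, hg, hh, twist_mul_left])⟩
    · exact ⟨g * conj p f h, Or.inr (by rw [Units.val_mul, hg, hh, twist_mul_right p f hE])⟩
    · exact ⟨g * conj p f h, Or.inl (by rw [Units.val_mul, hg, hh, twist_mul p f hE])⟩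
  inv_mem' := by
    rintro a ⟨g, hg | hg⟩
    · refine ⟨g⁻¹, Or.inl (Units.inv_eq_of_mul_eq_one_right ?_)⟩
      rw [hg, ← map_mul, mul_inv_cancel, map_one]
    · refine ⟨conj p f g⁻¹, Or.inr (Units.inv_eq_of_mul_eq_one_right ?_)⟩
      rw [hg, twist_mul p f hE, conj_conj p f hE, mul_inv_cancel, map_one]

/-- The representation of the semilinear group. -/
def rhoTwisted (hE : Fintype.card E = (p ^ f) ^ 2) :
    twisted (E := E) p f hE →* AddMonoid.End (Matrix (Fin 2) (Fin 2) E) :=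
  (Units.coeHom _).comp (twisted p f hE).subtype

theorem rhoTwisted_lin (hE : Fintype.card E = (p ^ f) ^ 2) (g : SL(2, E)) :
    ∃ u, rhoTwisted p f hE u = rhoFour p f g :=
  ⟨⟨(rhoFour p f).toHomUnits g, g, Or.inl rfl⟩, rfl⟩

theorem rhoTwisted_semi (hE : Fintype.card E = (p ^ f) ^ 2) (g : SL(2, E)) :
    ∃ u, rhoTwisted p f hE u = rhoFour p f g * sig p f := by
  obtain ⟨s, hs⟩ : ∃ s : (AddMonoid.End (Matrix (Fin 2) (Fin 2) E))ˣ, Units.val s = sig p f :=
    ⟨{ val := sig p f, inv := sig p f, val_inv := sig_sq p f hE, inv_val := sig_sq p f hE }, rfl⟩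
  have hv : Units.val ((rhoFour p f).toHomUnits g * s) = rhoFour p f g * sig p f := by
    rw [Units.val_mul, hs, MonoidHom.coe_toHomUnits]
  exact ⟨⟨_, g, Or.inr hv⟩, hv⟩

theorem twist_sq (hE : Fintype.card E = (p ^ f) ^ 2) (g : SL(2, E)) :
    (rhoFour p f g * sig p f) ^ 2 = rhoFour p f (g * conj p f g) := by
  rw [pow_two, twist_mul p f hE]

theorem nsmul_zero_mat {ι : Type*} (v : Matrix ι ι E) : p • v = 0 := by
  rw [← Nat.cast_smul_eq_nsmul E, CharP.cast_eq_zero, zero_smul]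

set_option maxHeartbeats 1000000 in
theorem spec_four_linear (hf : 1 ≤ f) (hE : Fintype.card E = (p ^ f) ^ 2) (hp : p ≤ 3 ∨ 5 ≤ p) (g : SL(2, E)) :
    ∃ d, Spec p (p ^ f) d ∧ ((rhoFour p f g ^ d = 1 ∧ gsum (rhoFour p f g) d = 0) ∨
      ∃ n, rhoFour p f g ^ n = 1 ∧ p * n ∣ d) := by
  haveI : CharP (AlgebraicClosure E) p := charP_of_injective_ringHom (algebraMap E (AlgebraicClosure E)).injective p
  refine linear_dvd p f (rhoFour p f) hf hE (algebraMap E (AlgebraicClosure E)) (fun g c hc hg => rhoFour_scalar p f hc hg)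
    (fun g l hl0 _ _ hann v hv hfix => ?_) (hp.imp_right fun h5 g c hc hN => rhoFour_unipotent p f h5 g c hc hN) g
  rcases fix_four p f _ g l hl0 hann v hv hfix with e | e
  · exact Or.inl (by rw [← pow_mul, mul_comm, pow_mul, e, one_pow])
  · exact Or.inr (by rw [← pow_mul, mul_comm, pow_mul, e, one_pow])

/-- The bound for the model in characteristic two. -/
theorem upper_two (hp : p = 2) (hf : 1 ≤ f) (hE : Fintype.card E = (p ^ f) ^ 2) :
    ∀ e : aff (rhoFour (E := E) p f), ∃ d, Spec p (p ^ f) d ∧ orderOf e ∣ d :=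
  dvd_of_forall _ (fun v => nsmul_zero_mat p v) _ (spec_four_linear p f hf hE (Or.inl (by omega)))

theorem frob_root {l : AlgebraicClosure E} (n : ℕ) (h : l ^ n = l ∨ l ^ n = l⁻¹) (hl : l ≠ 0) (hn : 1 ≤ n) :
    l ^ (n + 1) = 1 ∨ l ^ (n - 1) = 1 := by
  rcases h with e | e
  · right; exact mul_right_cancel₀ hl (by rw [← pow_succ, Nat.sub_add_cancel hn, one_mul, e])
  · left; rw [pow_succ, e, inv_mul_cancel₀ hl]

theorem spec_four_semi (h5 : 5 ≤ p) (hf : 1 ≤ f) (hE : Fintype.card E = (p ^ f) ^ 2) (g : SL(2, E)) :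
    ∃ d, Spec p (p ^ f) d ∧ (((rhoFour p f g * sig p f) ^ d = 1 ∧ gsum (rhoFour p f g * sig p f) d = 0) ∨
      ∃ n, (rhoFour p f g * sig p f) ^ n = 1 ∧ p * n ∣ d) := by
  set y := rhoFour p f g * sig p f with hy
  set q := p ^ f with hq
  have hp : p.Prime := Fact.out
  have hq1 : 1 ≤ q := Nat.one_le_pow _ _ hp.pos
  have hqo : q % 2 = 1 := by rw [hq, Nat.pow_mod, (hp.eq_two_or_odd).resolve_left (by omega), one_pow]; rfl
  set h := g * conj p f g with hh
  obtain ⟨l, hl0, hann, -, huni, hsc, hfr⟩ := sl_cases (algebraMap E (AlgebraicClosure E)) h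
  have htr : (h : Matrix (Fin 2) (Fin 2) E).trace ^ q = (h : Matrix (Fin 2) (Fin 2) E).trace := by
    rw [hq, ← bar_def p f]
    show bar p f ((g : Matrix (Fin 2) (Fin 2) E) * (g : Matrix (Fin 2) (Fin 2) E).map (bar p f)).trace =
      ((g : Matrix (Fin 2) (Fin 2) E) * (g : Matrix (Fin 2) (Fin 2) E).map (bar p f)).trace
    rw [show ∀ M : Matrix (Fin 2) (Fin 2) E, bar p f M.trace = (M.map (bar p f)).trace from fun M => by
        simp [Matrix.trace, map_sum], Matrix.map_mul,
      show ((g : Matrix (Fin 2) (Fin 2) E).map (bar p f)).map (bar p f) = (g : Matrix (Fin 2) (Fin 2) E) from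
        Matrix.ext fun _ _ => bar_bar p f hE _, Matrix.trace_mul_comm]
  have hl := frob_root q (hfr q (fun r hr => ⟨f, by rw [CharP.eq E hr ‹CharP E p›]⟩) htr) hl0 hq1
  have hy2 : ∀ k, y ^ (2 * k) = rhoFour p f (h ^ k) := fun k => by rw [pow_mul, hy, twist_sq p f hE, map_pow]
  by_cases hll : l * l = 1
  · obtain ⟨c, hc, hN⟩ := huni hll
    have h2p : y ^ (2 * p) = 1 := by
      rw [hy2, rhoFour_scalar p f (c := c ^ p) (by rw [← mul_pow, hc, one_pow]) (pow_p_scalar p hN)]
    have hg : gsum y (2 * p) = 0 := by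
      rw [gsum_double, ← pow_two, hy, twist_sq p f hE, rhoFour_unipotent p f h5 h c hc hN, mul_zero]
    have hd : p * (q + 1) = (q + 1) / 2 * (2 * p) := by
      rw [← mul_assoc, Nat.div_mul_cancel (by omega), mul_comm]
    refine ⟨p * (q + 1), Or.inr (Or.inr (Or.inl rfl)), Or.inl ⟨?_, ?_⟩⟩
    · rw [hd, mul_comm, pow_mul, h2p, one_pow]
    · rw [hd, gsum_add _ h2p, hg, nsmul_zero]
  · have key : ∀ m, l ^ m = 1 → m % 2 = 0 → y ^ m = 1 := fun m hm hm2 => by
      obtain ⟨k, rfl⟩ : 2 ∣ m := Nat.dvd_of_mod_eq_zero hm2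
      obtain ⟨c, hc, hk⟩ := hsc hll k (by rw [← pow_add, ← two_mul, hm])
      rw [hy2, rhoFour_scalar p f hc hk]
    rcases hl with e | e
    · exact ⟨p * (q + 1), Or.inr (Or.inr (Or.inl rfl)), Or.inr ⟨q + 1, key _ e (by omega), dvd_rfl⟩⟩
    · exact ⟨p * (q - 1), Or.inr (Or.inr (Or.inr (Or.inl rfl))), Or.inr ⟨q - 1, key _ e (by omega), dvd_rfl⟩⟩

/-- The bound for the model in characteristic at least five. -/
theorem upper_five (h5 : 5 ≤ p) (hf : 1 ≤ f) (hE : Fintype.card E = (p ^ f) ^ 2) :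
    ∀ e : aff (rhoTwisted (E := E) p f hE), ∃ d, Spec p (p ^ f) d ∧ orderOf e ∣ d :=
  dvd_of_forall _ (fun v => nsmul_zero_mat p v) _ fun γ => by
    obtain ⟨g, hg | hg⟩ := γ.2
    · rw [show rhoTwisted p f hE γ = rhoFour p f g from hg]
      exact spec_four_linear p f hf hE (Or.inr h5) g
    · rw [show rhoTwisted p f hE γ = rhoFour p f g * sig p f from hg]
      exact spec_four_semi p f h5 hf hE g

/-- The bound for the model in characteristic three. -/
theorem upper_three (hp : p = 3) (hf2 : Even f) (hf : 1 ≤ f) (hE : Fintype.card E = (p ^ f) ^ 2) :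
    ∀ e : aff (rhoBig (E := E) p f), ∃ d, Spec p (p ^ f) d ∧ orderOf e ∣ d := by
  haveI : CharP (AlgebraicClosure E) p := charP_of_injective_ringHom (algebraMap E (AlgebraicClosure E)).injective p
  refine dvd_of_forall _ (fun v => nsmul_zero_mat p v) _ fun g =>
    linear_dvd p f (rhoBig p f) hf hE (algebraMap E (AlgebraicClosure E)) (fun g c hc hg => rhoBig_scalar p f hc hg)
    (fun g l hl0 _ hl2 hann v hv hfix => fix_big p f hp hf2 _ g l hl0 hl2 hann v hv hfix) (Or.inl hp.le) g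

end Cfsg.Lib.SpecSymp
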